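import Groth.Agent.JacPts.RR
import Groth.Agent.EulerChar.Cartier
import Groth.Agent.FFCurve.Canonical

/-!
# Ideals of finite colength on a smooth proper curve as divisors
-/

set_option autoImplicit false
set_option linter.style.haveILetI false
set_option linter.unusedSectionVars false
set_option backward.isDefEq.respectTransparency false
set_option backward.isDefEq.respectTransparency.types false
set_option maxHeartbeats 800000

universe u

noncomputable section

open CategoryTheory CategoryTheory.Limits AlgebraicGeometry TopologicalSpace FunFld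
open Groth.Agent.FFCurve

namespace Groth.Agent.JacPts.CurveDiv

/-- On an integral scheme an ideal sheaf vanishing on one nonempty affine open vanishes. -/
theorem eq_bot_of_ideal_eq_bot {X : Scheme.{u}} [IsIntegral X] {I : X.IdealSheafData} {W : X.affineOpens}
    [Nonempty W.1] (h : I.ideal W = ⊥) : I = ⊥ := by
  refine le_antisymm (fun V a ha => ?_) bot_le
  by_cases hV : (V.1 : Set X).Nonempty
  · obtain ⟨w, hwV, hwW⟩ : ((V.1 : Set X) ∩ (W.1 : Set X)).Nonempty :=
      nonempty_preirreducible_inter V.1.isOpen W.1.isOpen hV ⟨_, (Classical.arbitrary W.1).2⟩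
    obtain ⟨T, hwT, hT⟩ := IdealSh.Comap.exists_affine_le w (V.1 ⊓ W.1) ⟨hwV, hwW⟩
    haveI : Nonempty T.1 := ⟨⟨w, hwT⟩⟩
    have h1 : I.ideal T = ⊥ := by
      rw [← I.map_ideal (U := T) (V := W) (hT.trans inf_le_right), h, Ideal.map_bot]
    have h2 : X.presheaf.map (homOfLE (hT.trans inf_le_left)).op a ∈ I.ideal T := by
      rw [← I.map_ideal (U := T) (V := V) (hT.trans inf_le_left)]
      exact Ideal.mem_map_of_mem _ ha
    rw [h1, Ideal.mem_bot] at h2
    have h3 : a = 0 := map_injective_of_isIntegral X (homOfLE (hT.trans inf_le_left)) (h2.trans (map_zero _).symm)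
    rw [h3]; exact zero_mem _
  · haveI : Subsingleton Γ(X, V.1) := by
      rw [show V.1 = ⊥ from Opens.ext (Set.not_nonempty_iff_eq_empty.1 hV)]
      infer_instance
    rw [Subsingleton.elim a 0]; exact zero_mem _

variable {X : Scheme.{u}} (k : Type u) [Field k] [X.Over (Spec (CommRingCat.of k))]
  [IsIntegral X] [IsProper (X ↘ Spec (CommRingCat.of k))] [RegCurve X]
include k

/-- Nonzero ideals on a regular curve are effective Cartier. -/
theorem isEffCartierIdeal_of_ne_bot {I : X.IdealSheafData} (hI : I ≠ ⊥) : BlowUp.IsEffCartierIdeal I := by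
  haveI := EulerChar.isNoetherian k (X := X)
  intro y
  haveI : ValuationRing (X.presheaf.stalk y) := RegCurve.val y
  obtain ⟨U, hU, -⟩ := IdealSh.Comap.exists_affine_le y ⊤ trivial
  haveI : IsNoetherianRing Γ(X, U.1) := IsLocallyNoetherian.component_noetherian U
  letI := TopCat.Presheaf.algebra_section_stalk X.presheaf ⟨y, hU⟩
  haveI := U.2.isLocalization_stalk ⟨y, hU⟩
  let p := (U.2.primeIdealOf ⟨y, hU⟩).asIdeal
  let J := I.ideal U
  obtain ⟨c, hc⟩ := IsBezout.isPrincipal_of_FG (J.map (algebraMap Γ(X, U.1) (X.presheaf.stalk y)))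
    (IsNoetherian.noetherian _)
  obtain ⟨⟨⟨f, hf⟩, s⟩, hfs⟩ := (IsLocalization.mem_map_algebraMap_iff p.primeCompl (X.presheaf.stalk y)).1
    (hc.ge (Submodule.mem_span_singleton_self c))
  have hu := IsLocalization.map_units (X.presheaf.stalk y) s
  have key : ∀ a ∈ J, ∃ g ∉ p, ∃ b, g * a = b * f := by
    intro a ha
    obtain ⟨d, hd⟩ := Submodule.mem_span_singleton.1
      (hc.le (Ideal.mem_map_of_mem _ ha))
    obtain ⟨⟨e, t⟩, he⟩ := IsLocalization.surj p.primeCompl d
    have h1 : algebraMap Γ(X, U.1) (X.presheaf.stalk y) ((s : Γ(X, U.1)) * (t : Γ(X, U.1)) * a) =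
        algebraMap Γ(X, U.1) (X.presheaf.stalk y) (e * f) := by
      rw [smul_eq_mul] at hd
      rw [map_mul, map_mul, map_mul, ← hd, ← he, ← hfs]
      ring
    obtain ⟨w, hw⟩ := (IsLocalization.eq_iff_exists p.primeCompl _).1 h1
    exact ⟨(w : Γ(X, U.1)) * ((s : Γ(X, U.1)) * (t : Γ(X, U.1))),
      p.primeCompl.mul_mem w.2 (p.primeCompl.mul_mem s.2 t.2), w * e, by linear_combination hw⟩
  obtain ⟨S, hS⟩ : Ideal.FG J := IsNoetherian.noetherian J
  choose! g hg b hb using key
  let G := ∏ a ∈ S, g a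
  have hG : G ∉ p := fun h => by
    obtain ⟨a, ha, hga⟩ := (Ideal.IsPrime.prod_mem_iff (p := p)).1 h
    exact hg a (hS ▸ Ideal.subset_span ha) hga
  have hle : ∀ a ∈ J, G * a ∈ Ideal.span {f} := by
    intro a ha
    rw [← hS] at ha
    induction ha using Submodule.span_induction with
    | mem a ha =>
      obtain ⟨q, hq⟩ := Finset.dvd_prod_of_mem g ha
      refine Ideal.mem_span_singleton'.2 ⟨q * b a, ?_⟩
      rw [show G = g a * q from hq]
      have := hb a (hS ▸ Ideal.subset_span ha)
      linear_combination -q * this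
    | zero => simp
    | add a a' _ _ h h' => rw [mul_add]; exact add_mem h h'
    | smul r a _ h =>
      rw [smul_eq_mul, ← mul_assoc, mul_comm G r, mul_assoc]
      exact Ideal.mul_mem_left _ r h
  have hyG : y ∈ X.basicOpen G := by
    rw [X.mem_basicOpen G y hU]
    exact IsLocalization.map_units (X.presheaf.stalk y) (⟨G, hG⟩ : p.primeCompl)
  let W := X.affineBasicOpen G
  let ρ := (X.presheaf.map (homOfLE (X.basicOpen_le G)).op).hom
  have hW : I.ideal W = Ideal.span {ρ f} := by
    rw [show I.ideal W = (I.ideal U).map ρ from (I.map_ideal_basicOpen U G).symm]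
    refine le_antisymm (Ideal.map_le_iff_le_comap.2 fun a ha => ?_)
      ((Ideal.span_singleton_le_iff_mem _).2 (Ideal.mem_map_of_mem _ hf))
    have hunit : IsUnit (ρ G) := by
      have := X.toRingedSpace.isUnit_res_basicOpen G
      exact this
    obtain ⟨r, hr⟩ := Ideal.mem_span_singleton'.1 (hle a ha)
    refine Ideal.mem_span_singleton'.2 ⟨(↑hunit.unit⁻¹ : Γ(X, X.basicOpen G)) * ρ r, ?_⟩
    rw [mul_assoc, ← map_mul, hr, map_mul, ← mul_assoc]
    simp
  haveI : Nonempty W.1 := ⟨⟨y, hyG⟩⟩
  exact ⟨W, hyG, ρ f, mem_nonZeroDivisors_of_ne_zero fun h0 =>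
    hI (eq_bot_of_ideal_eq_bot (hW.trans (Ideal.span_singleton_eq_bot.2 h0))), hW⟩

variable (hdim : topologicalKrullDim X = 1)
include hdim

theorem ne_bot_of_finrank [IsAlgClosed k] {I : X.IdealSheafData}
    (h : Module.finrank k (Coh.HH X (ClSub.quotMod I) 0) ≠ 1) : I ≠ ⊥ := by
  rintro rfl
  haveI : IsIso (ClSub.toSubscheme (⊥ : X.IdealSheafData)) :=
    LFFrame.isIso_of_locally_bijective _ fun x => ⟨⊤, trivial, fun V _ =>
      ConcreteCategory.bijective_of_isIso ((Scheme.IdealSheafData.subschemeι (⊥ : X.IdealSheafData)).app V)⟩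
  refine h ?_
  have hK := isFunctionField_of_isAlgClosed (X := X) k hdim
  rw [← finrank_HH_zero_iso k (asIso (ClSub.toSubscheme (⊥ : X.IdealSheafData))),
    finrank_zero k hdim hK (isInvertible_structureModule (X := X)),
    DivEq.ell_eq k hdim (divEq_structureModule k hdim), FF.ell_zero hK]
where
  finrank_HH_zero_iso {M N : X.Modules} (k : Type u) [Field k] [X.Over (Spec (CommRingCat.of k))] (e : M ≅ N) :
      Module.finrank k (Coh.HH X M 0) = Module.finrank k (Coh.HH X N 0) := by
    have h : ∀ {M N : X.Modules} (e : M ≅ N) (x : Coh.HH X M 0),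
        CurveCoh.mapL k e.inv 0 (CurveCoh.mapL k e.hom 0 x) = x := fun {M N} e x => by
      show Sheaf.H.map _ 0 (Sheaf.H.map _ 0 x) = x
      rw [← Sheaf.H.map_comp_apply, ← Functor.map_comp, e.hom_inv_id, CategoryTheory.Functor.map_id,
        Sheaf.H.map_id_apply]
    exact LinearEquiv.finrank_eq (LinearEquiv.ofBijective (CurveCoh.mapL k e.hom 0)
      ⟨fun x y hxy => (h e x).symm.trans ((congrArg _ hxy).trans (h e y)), fun y => ⟨_, h e.symm y⟩⟩)

attribute [local irreducible] Curv2.euler

/-- The degree of a nonzero ideal is minus its colength. -/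
theorem deg_idealMod {I : X.IdealSheafData} (hI : I ≠ ⊥) :
    ∃ _ : PicF.IsInvertible (ClSub.idealMod I),
      Curv2.deg k X (ClSub.idealMod I) 1 = -(Module.finrank k (Coh.HH X (ClSub.quotMod I) 0) : ℤ) := by
  have hD := isEffCartierIdeal_of_ne_bot k hI
  have hinv := IdealSh.IdealMod.isInvertible_of_isEffCartierIdeal I hD
  refine ⟨hinv, ?_⟩
  haveI := EulerChar.isNoetherian k (X := X)
  have hS := EulerChar.shortExact_ideal I
  haveI : (Coh.structureModule I.subscheme).IsQuasicoherent :=
    ProjTwist.isQuasicoherent_structureModule I.subscheme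
  have hO := VBLib.isCoh_of_ofRank
    (ProjTwist.isFinLocFreeOfRank_one (PicLoc.isInvertible_structureModule X))
  have hIc : Coh.IsCoh (ClSub.idealMod I) :=
    CohDev.isCoh_kernel (ClSub.toSubscheme I) hO (QCoh.isQuasicoherent_pushforward I.subschemeι _)
  have hQ : Coh.IsCoh (ClSub.quotMod I) :=
    CohDev.isCoh_of_iso ((cokernelIsCokernel (ClSub.idealModι I)).coconePointUniqueUpToIso hS.gIsCokernel)
      (CohDev.isCoh_cokernel (ClSub.idealModι I) hIc.1 hO)
  have hs := (TopDimLib.topDim_le_of_subset (EulerChar.support_quotMod_subset I)).trans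
    (EulerChar.dim_support_divisor I hdim.le hD)
  have h1 := EulerChar.euler_add' k (ClSub.idealModι I) (ClSub.toSubscheme I) (kernel.condition _) hS hIc hO hQ
  rw [EulerChar.euler_eq_finrank_of_support k hQ hs] at h1
  rw [Curv2.deg, h1]
  simp

end Groth.Agent.JacPts.CurveDiv
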