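import Groth.Agent.FFCurve.AlgClosed
import Groth.Agent.FFCurve.PointRR
import Groth.Agent.RedSub.Basic
import Groth.Agent.GrpScheme.SepPoint
import Groth.Agent.VBLib.RR
import Groth.Agent.ZetaLib.Points
import Groth.Prelude.Def_FGA

/-!
# Rational points of curves as places of the function field
-/

set_option autoImplicit false
set_option linter.style.haveILetI false
set_option linter.unusedSectionVars false
set_option backward.isDefEq.respectTransparency false
set_option backward.isDefEq.respectTransparency.types false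

universe u

noncomputable section

open CategoryTheory AlgebraicGeometry TopologicalSpace FunFld
open Groth.Agent.FFCurve

namespace Groth.Agent.JacPts

/-- A curve smooth, proper and connected over a field is integral and regular. -/
theorem integral_reg (k : Type u) [Field k] (X : Scheme.{u}) [X.Over (Spec (CommRingCat.of k))]
    [IsProper (X ↘ Spec (CommRingCat.of k))] [Smooth (X ↘ Spec (CommRingCat.of k))]
    [GeometricallyConnected (X ↘ Spec (CommRingCat.of k))] (hdim : topologicalKrullDim ↥X = 1) :
    ∃ _ : IsIntegral X, RegCurve X := by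
  haveI : ConnectedSpace X := GeometricallyConnected.connectedSpace (X ↘ Spec (CommRingCat.of k)) (fun _ _ => isOpen_discrete _)
  haveI := FFCurve.isIntegral_of_connected k (X := X)
  exact ⟨inferInstance, FFCurve.regCurve_of_smooth k hdim⟩

variable {X : Scheme.{u}} [IsIntegral X] (k : Type u) [Field k] [X.Over (Spec (CommRingCat.of k))]
  [IsProper (X ↘ Spec (CommRingCat.of k))] [RegCurve X] (hdim : topologicalKrullDim X = 1)
  {σ : Spec (CommRingCat.of k) ⟶ X} (hσ : σ ≫ (X ↘ Spec (CommRingCat.of k)) = 𝟙 _)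
include hdim hσ

omit [IsIntegral X] [RegCurve X] hdim in
theorem isClosedImmersion_ratPt : IsClosedImmersion σ :=
  haveI : IsClosedImmersion (σ ≫ (X ↘ Spec (CommRingCat.of k))) := by rw [hσ]; infer_instance
  IsClosedImmersion.of_comp σ (X ↘ Spec (CommRingCat.of k))

/-- The closed point of a rational point. -/
def cpt : ZetaLib.ClosedPt X :=
  ⟨σ.base (IsLocalRing.closedPoint k), by
    haveI := isClosedImmersion_ratPt k hσ
    haveI : Subsingleton ↥(Spec (CommRingCat.of k)) := inferInstanceAs (Subsingleton (PrimeSpectrum k))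
    have h : ({σ.base (IsLocalRing.closedPoint k)} : Set X) = Set.range σ.base :=
      Set.ext fun y => ⟨fun h => ⟨_, (Set.mem_singleton_iff.1 h).symm⟩,
        fun ⟨w, hw⟩ => by rw [Set.mem_singleton_iff, ← hw, Subsingleton.elim w (IsLocalRing.closedPoint k)]⟩
    rw [h]
    exact σ.isClosedEmbedding.isClosed_range⟩

/-- The place of a rational point. -/
def plc : Place k X.functionField := toPlace k hdim (cpt k hσ)

theorem deg_plc : (plc k hdim hσ).deg = 1 := by
  rw [plc, ← finrank_residueField k hdim, ZetaLib.residueDegree_eq_finrank]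
  letI := (Weil.structMap (X ↘ Spec (CommRingCat.of k)) (cpt k hσ).1).toAlgebra
  have hs : Function.Surjective (Weil.structMap (X ↘ Spec (CommRingCat.of k)) (cpt k hσ).1) := by
    intro y
    have h := Weil.structMap_comp σ (X ↘ Spec (CommRingCat.of k)) (IsLocalRing.closedPoint k)
    obtain ⟨c, hc⟩ := Weil.structMap_id_surjective (k := k) (IsLocalRing.closedPoint k)
      ((σ.residueFieldMap (IsLocalRing.closedPoint k)).hom y)
    refine ⟨c, (σ.residueFieldMap (IsLocalRing.closedPoint k)).hom.injective ?_⟩
    rw [← hc]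
    rw [hσ] at h
    exact (RingHom.congr_fun h c).symm
  exact (LinearEquiv.ofBijective (Algebra.linearMap k (X.residueField (cpt k hσ).1))
    ⟨RingHom.injective _, hs⟩).finrank_eq.symm.trans (Module.finrank_self k)

theorem ker_eq_pointI : σ.ker = pointI (cpt k hσ) := by
  haveI := isClosedImmersion_ratPt k hσ
  refine RedSub.ker_eq_vanishingIdeal σ _ ?_
  haveI : Subsingleton ↥(Spec (CommRingCat.of k)) := inferInstanceAs (Subsingleton (PrimeSpectrum k))
  exact Set.ext fun y => ⟨fun ⟨w, hw⟩ => by
    rw [← hw, Subsingleton.elim w (IsLocalRing.closedPoint k)]; rfl,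
    fun h => ⟨_, (Set.mem_singleton_iff.1 h).symm⟩⟩

theorem isInvertible_ker : PicF.IsInvertible (ClSub.idealMod σ.ker) := by
  rw [ker_eq_pointI k hdim hσ]
  exact isInvertible_pointI k hdim _

theorem divEq_ker : DivEq k (divOf k hdim (isInvertible_ker k hdim hσ)) (-Finsupp.single (plc k hdim hσ) 1) := by
  have h : ∀ (I : X.IdealSheafData) (hI : PicF.IsInvertible (ClSub.idealMod I)), I = pointI (cpt k hσ) →
      DivEq k (divOf k hdim hI) (-Finsupp.single (plc k hdim hσ) 1) := by
    rintro I hI rfl
    exact divEq_pointI k hdim _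
  exact h _ _ (ker_eq_pointI k hdim hσ)

/-- A connected curve with a rational point has function field with constants `k`. -/
theorem isFunctionField : IsFunctionField k X.functionField := by
  refine isFunctionField_of_h0 k hdim (VBLib.finrank_H0_structure_eq_one ?_)
  let := (isField_of_universallyClosed k (X ↘ Spec (CommRingCat.of k))).toField
  have hinv : ∀ c : k, (Scheme.ΓSpecIso (CommRingCat.of k)).hom
      (σ.appTop (Coh.toGlobal (X ↘ Spec (CommRingCat.of k)) c)) = c := by
    intro c
    have h1 : σ.appTop ((X ↘ Spec (CommRingCat.of k)).appTop ((Scheme.ΓSpecIso (CommRingCat.of k)).inv c)) =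
        (Scheme.ΓSpecIso (CommRingCat.of k)).inv c := by
      show ((X ↘ Spec (CommRingCat.of k)).appTop ≫ σ.appTop).hom _ = _
      rw [← Scheme.Hom.comp_appTop, hσ]
      rfl
    exact (congrArg _ h1).trans (by simp)
  let ev : Γ(X, ⊤) →+* k := ((Scheme.ΓSpecIso (CommRingCat.of k)).hom.hom).comp σ.appTop.hom
  refine ⟨fun a b h => ?_, fun y => ⟨ev y, ev.injective (hinv _)⟩⟩
  rw [← hinv a, h, hinv b]

theorem genus_eq : Curv2.genus k X = genus k X.functionField :=
  genus_eq_genus k hdim (isFunctionField k hdim hσ)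

omit hσ in
/-- The divisor of a tensor product of ideals of rational points. -/
theorem divEq_tensorList : ∀ {n : ℕ} (σ' : Fin n → (Spec (CommRingCat.of k) ⟶ X))
    (h : ∀ i, σ' i ≫ (X ↘ Spec (CommRingCat.of k)) = 𝟙 _),
    ∃ hI : PicF.IsInvertible (FGA.tensorList (List.ofFn fun i => ClSub.idealMod (σ' i).ker)),
      DivEq k (divOf k hdim hI) (-∑ i, Finsupp.single (plc k hdim (h i)) 1) := by
  intro n
  induction n with
  | zero =>
    intro σ' h
    rw [List.ofFn_zero]
    exact ⟨isInvertible_structureModule, by simpa using divEq_structureModule k hdim⟩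
  | succ n ih =>
    intro σ' h
    rw [List.ofFn_succ]
    obtain ⟨hI, e⟩ := ih (fun i => σ' i.succ) (fun i => h i.succ)
    refine ⟨AmpleLib.isInvertible_tensorMod (isInvertible_ker k hdim (h 0)) hI, ?_⟩
    rw [Fin.sum_univ_succ, neg_add]
    exact DivEq.trans' k hdim (divEq_tensor k hdim (isInvertible_ker k hdim (h 0)) hI)
      (DivEq.add' k hdim (divEq_ker k hdim (h 0)) e)

omit hσ in
/-- The degree of a sum of rational points. -/
theorem deg_sum_plc {ι : Type*} (s : Finset ι) (σ' : ι → (Spec (CommRingCat.of k) ⟶ X))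
    (h : ∀ i, σ' i ≫ (X ↘ Spec (CommRingCat.of k)) = 𝟙 _) :
    FunFld.Divisor.deg (∑ i ∈ s, Finsupp.single (plc k hdim (h i)) (1 : ℤ)) = s.card := by
  classical
  induction s using Finset.induction with
  | empty => simp [FF.deg_zero']
  | insert a t ha ih =>
    rw [Finset.sum_insert ha, FF.deg_add, ih, FF.deg_single, deg_plc k hdim (h a), Finset.card_insert_of_notMem ha]
    push_cast
    ring

omit hσ in
/-- If `M ⊗ N ≅ L` then divisors add. -/
theorem divEq_of_tensor_iso {M N L : X.Modules} (hM : PicF.IsInvertible M) (hN : PicF.IsInvertible N)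
    (hL : PicF.IsInvertible L) (e : CohB1.tensorMod M N ≅ L) {D E : Divisor k X.functionField}
    (hD : DivEq k (divOf k hdim hN) D) (hE : DivEq k (divOf k hdim hL) E) :
    DivEq k (divOf k hdim hM) (E - D) := by
  have h1 : DivEq k (divOf k hdim hM + divOf k hdim hN) E :=
    DivEq.trans' k hdim (DivEq.symm' k hdim (divEq_tensor k hdim hM hN))
      (DivEq.trans' k hdim (DivEq.symm' k hdim (divEq_iso k hdim (AmpleLib.isInvertible_tensorMod hM hN) hL e)) hE)
  obtain ⟨z, hz, hz'⟩ := DivEq.add' k hdim h1 (DivEq.symm' k hdim hD)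
  refine ⟨z, hz, ?_⟩
  have : divOf k hdim hM = divOf k hdim hM + divOf k hdim hN + D - (divOf k hdim hN + D) := by abel
  rw [this, hz']
  abel

omit hdim hσ in
variable (X) in
/-- Rational points avoid any finite set of closed points over a separably closed field. -/
theorem exists_ratPt_avoid [IsSepClosed k] [Smooth (X ↘ Spec (CommRingCat.of k))]
    (hdim : topologicalKrullDim X = 1) (s : Finset (ZetaLib.ClosedPt X)) :
    ∃ σ : Spec (CommRingCat.of k) ⟶ X, σ ≫ (X ↘ Spec (CommRingCat.of k)) = 𝟙 _ ∧
      ∀ x ∈ s, σ.base (IsLocalRing.closedPoint k) ≠ x.1 := by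
  let U : X.Opens := ⟨(⋃ x ∈ (s : Set (ZetaLib.ClosedPt X)), {x.1})ᶜ,
    (s.finite_toSet.isClosed_biUnion fun x _ => x.2).isOpen_compl⟩
  have hη : genericPoint X ∈ U := by
    show genericPoint X ∈ (⋃ x ∈ (s : Set (ZetaLib.ClosedPt X)), {x.1})ᶜ
    simp only [Set.mem_compl_iff, Set.mem_iUnion, Set.mem_singleton_iff, not_exists]
    intro x _ hx
    haveI := FFCurve.isDVR k hdim (x := genericPoint X) (hx ▸ x.2)
    exact IsDiscreteValuationRing.not_isField (X.presheaf.stalk (genericPoint X)) (Field.toIsField X.functionField)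
  haveI : Nonempty U.toScheme := ⟨⟨_, hη⟩⟩
  obtain ⟨p, hp⟩ := GrpScheme.SepPoint.exists_point (U.ι ≫ (X ↘ Spec (CommRingCat.of k)))
  refine ⟨p ≫ U.ι, by rw [Category.assoc, hp], fun x hx hxe => ?_⟩
  have : (p ≫ U.ι).base (IsLocalRing.closedPoint k) ∈ U := (p.base (IsLocalRing.closedPoint k)).2
  rw [hxe] at this
  exact this (Set.mem_biUnion hx rfl)

end Groth.Agent.JacPts
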