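import Groth.Agent.JacPts.Basic
import Groth.Agent.IdealPull.Basic
import Groth.Agent.RelDiv.Cancel
import Groth.Agent.RelDiv.CurveSmooth
import Groth.Agent.HilbD.Push
import Groth.Agent.KFlat.PullTensor
import Groth.Agent.EulerChar.AmpleCurve
import Groth.Agent.S7636
import Groth.Agent.ProjTwist.Tensor
import Groth.Agent.PicCl.Basic
import Groth.Prelude.Def_Jac
import Groth.Prelude.Def_SecTwist

/-!
# Rational points of the Jacobian as divisor classes
-/

set_option autoImplicit false
set_option linter.style.haveILetI false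
set_option linter.unusedSectionVars false
set_option backward.isDefEq.respectTransparency false
set_option backward.isDefEq.respectTransparency.types false
set_option maxHeartbeats 800000

universe u

noncomputable section

open CategoryTheory CategoryTheory.Limits AlgebraicGeometry MonoidalCategory CartesianMonoidalCategory MonObj
open FunFld Groth.Agent.FFCurve

namespace Groth.Agent.JacPts

/-- Rank one locally free modules are invertible. -/
theorem isInvertible_of_rank_one {X : Scheme.{u}} {L : X.Modules} (hL : FlatMod.IsFinLocFreeOfRank 1 L) :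
    PicF.IsInvertible L := fun x => by
  obtain ⟨U, hx, ⟨φ⟩⟩ := hL x
  exact ⟨U, hx, ⟨φ ≪≫ coproductUniqueIso fun _ : Fin 1 => Coh.structureModule (U : Scheme.{u})⟩⟩

/-- An invertible module on the spectrum of a field is trivial. -/
theorem nonempty_iso_structure_of_field (K : Type u) [Field K] {M : (Spec (CommRingCat.of K)).Modules}
    (hM : PicF.IsInvertible M) : Nonempty (M ≅ Coh.structureModule (Spec (CommRingCat.of K))) := by
  obtain ⟨U, hx, ⟨φ⟩⟩ := hM (IsLocalRing.closedPoint K)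
  haveI : Subsingleton ↥(Spec (CommRingCat.of K)) := inferInstanceAs (Subsingleton (PrimeSpectrum K))
  obtain rfl : U = ⊤ := eq_top_iff.2 fun y _ => by
    rw [Subsingleton.elim y (IsLocalRing.closedPoint K)]; exact hx
  let e := (Scheme.topIso (Spec (CommRingCat.of K)))
  have h : e.inv ≫ (⊤ : (Spec (CommRingCat.of K)).Opens).ι = 𝟙 _ := e.inv_hom_id
  exact ⟨((Scheme.Modules.pullbackId _).app M).symm ≪≫ (Scheme.Modules.pullbackCongr h.symm).app M ≪≫
    ((Scheme.Modules.pullbackComp e.inv _).app M).symm ≪≫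
    (Scheme.Modules.pullback e.inv).mapIso (((Scheme.Modules.restrictFunctorIsoPullback _).app M).symm ≪≫ φ) ≪≫
    QCoh.pullbackUnitIso e.inv⟩

/-- The degree is invariant under isomorphisms. -/
theorem deg_iso' (k : Type u) [Field k] {X : Scheme.{u}} [X.Over (Spec (CommRingCat.of k))] {n : ℕ}
    {M N : X.Modules} (e : M ≅ N) : Curv2.deg k X M n = Curv2.deg k X N n := by
  have he : Curv2.euler k X M = Curv2.euler k X N := by
    refine finsum_congr fun i => ?_
    congr 2
    have h : ∀ {M N : X.Modules} (e : M ≅ N) (x : Coh.HH X M i),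
        CurveCoh.mapL k e.inv i (CurveCoh.mapL k e.hom i x) = x := fun {M N} e x => by
      show Sheaf.H.map _ i (Sheaf.H.map _ i x) = x
      rw [← Sheaf.H.map_comp_apply, ← Functor.map_comp, e.hom_inv_id, CategoryTheory.Functor.map_id,
        Sheaf.H.map_id_apply]
    exact LinearEquiv.finrank_eq (LinearEquiv.ofBijective (CurveCoh.mapL k e.hom i)
      ⟨fun x y hxy => (h e x).symm.trans ((congrArg _ hxy).trans (h e y)), fun y => ⟨_, h e.symm y⟩⟩)
  rw [Curv2.deg, Curv2.deg, he]

variable {k : Type u} [Field k] {X : Scheme.{u}} [X.Over (Spec (CommRingCat.of k))]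

variable (k X) in
/-- The projection of the trivial family space to the curve. -/
abbrev prI : PicF.XT (X ↘ Spec (CommRingCat.of k)) (𝟙_ (Over (Spec (CommRingCat.of k)))) ⟶ X :=
  pullback.fst (X ↘ Spec (CommRingCat.of k)) (𝟙_ (Over (Spec (CommRingCat.of k)))).hom

instance : IsIso (prI k X) := by
  haveI : IsIso (𝟙_ (Over (Spec (CommRingCat.of k)))).hom := inferInstanceAs (IsIso (𝟙 (Spec (CommRingCat.of k))))
  infer_instance

/-- A family over the point is the pullback of a module on the curve. -/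
theorem iso_pullback_inv (E : (PicF.XT (X ↘ Spec (CommRingCat.of k)) (𝟙_ (Over (Spec (CommRingCat.of k))))).Modules) :
    Nonempty (E ≅ (Scheme.Modules.pullback (prI k X)).obj ((Scheme.Modules.pullback (inv (prI k X))).obj E)) :=
  ⟨((Scheme.Modules.pullbackId _).app E).symm ≪≫ (Scheme.Modules.pullbackCongr (IsIso.hom_inv_id (prI k X)).symm).app E ≪≫
    ((Scheme.Modules.pullbackComp (prI k X) (inv (prI k X))).app E).symm⟩

theorem iso_pullback_inv' (M : X.Modules) :
    Nonempty ((Scheme.Modules.pullback (inv (prI k X))).obj ((Scheme.Modules.pullback (prI k X)).obj M) ≅ M) :=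
  ⟨(Scheme.Modules.pullbackComp (inv (prI k X)) (prI k X)).app M ≪≫
    (Scheme.Modules.pullbackCongr (IsIso.inv_hom_id (prI k X))).app M ≪≫ (Scheme.Modules.pullbackId _).app M⟩

variable [IsIntegral X] [IsProper (X ↘ Spec (CommRingCat.of k))] [RegCurve X] (hdim : topologicalKrullDim X = 1)
include hdim

/-- Degree after extension of the field. -/
theorem deg_fibre {M : X.Modules} (hM : PicF.IsInvertible M) (Ω : Type u) [Field Ω]
    (s : Spec (CommRingCat.of Ω) ⟶ Spec (CommRingCat.of k)) :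
    letI : (pullback (X ↘ Spec (CommRingCat.of k)) s).Over (Spec (CommRingCat.of Ω)) := ⟨pullback.snd _ _⟩
    Curv2.deg Ω (pullback (X ↘ Spec (CommRingCat.of k)) s)
      ((Scheme.Modules.pullback (pullback.fst (X ↘ Spec (CommRingCat.of k)) s)).obj M) 1 = Curv2.deg k X M 1 := by
  obtain ⟨φ, rfl⟩ := Spec.map_surjective s
  letI : Algebra k Ω := φ.hom.toAlgebra
  exact S7636.result k X hdim.le Ω 1 M (ProjTwist.isFinLocFreeOfRank_one hM)

/-- Families over the point of degree zero are admissible. -/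
theorem ok_of_iso {M : X.Modules} (hM : PicF.IsInvertible M) (hd : Curv2.deg k X M 1 = 0)
    {E : (PicF.XT (X ↘ Spec (CommRingCat.of k)) (𝟙_ (Over (Spec (CommRingCat.of k))))).Modules}
    (e : E ≅ (Scheme.Modules.pullback (prI k X)).obj M) :
    (ModFun.PicDeg (X ↘ Spec (CommRingCat.of k)) 0).ok (𝟙_ (Over (Spec (CommRingCat.of k)))) E := by
  have hE : PicF.IsInvertible E := PicCl.isInvertible_of_iso e.symm (PicCl.isInvertible_pullback _ hM)
  refine ⟨⟨trivial, ProjTwist.isFinLocFreeOfRank_one hE⟩, fun Ω _ _ t => ?_⟩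
  letI : (PicF.XT (X ↘ Spec (CommRingCat.of k)) (Over.mk (t ≫ (𝟙_ (Over (Spec (CommRingCat.of k)))).hom))).Over
      (Spec (CommRingCat.of Ω)) := ⟨PicF.XTproj _ _⟩
  let g : Over.mk (t ≫ (𝟙_ (Over (Spec (CommRingCat.of k)))).hom) ⟶ 𝟙_ (Over (Spec (CommRingCat.of k))) :=
    Over.homMk t rfl
  have hg : PicF.XTmap (X ↘ Spec (CommRingCat.of k)) g ≫ prI k X = pullback.fst _ _ := by
    rw [prI, PicF.XTmap, pullback.lift_fst, Category.comp_id]
  show Curv2.deg Ω _ ((Scheme.Modules.pullback (PicF.XTmap (X ↘ Spec (CommRingCat.of k)) g)).obj E) 1 = 0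
  rw [deg_iso' Ω ((Scheme.Modules.pullback _).mapIso e ≪≫ (Scheme.Modules.pullbackComp _ _).app M ≪≫
    (Scheme.Modules.pullbackCongr hg).app M)]
  exact (deg_fibre hdim hM Ω (t ≫ (𝟙_ (Over (Spec (CommRingCat.of k)))).hom)).trans hd

/-- Admissible families over the point have degree zero. -/
theorem deg_of_ok [IsAlgClosed k] {E : (PicF.XT (X ↘ Spec (CommRingCat.of k)) (𝟙_ (Over (Spec (CommRingCat.of k))))).Modules}
    (hok : (ModFun.PicDeg (X ↘ Spec (CommRingCat.of k)) 0).ok (𝟙_ (Over (Spec (CommRingCat.of k)))) E) :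
    PicF.IsInvertible ((Scheme.Modules.pullback (inv (prI k X))).obj E) ∧
      Curv2.deg k X ((Scheme.Modules.pullback (inv (prI k X))).obj E) 1 = 0 := by
  set M := (Scheme.Modules.pullback (inv (prI k X))).obj E
  obtain ⟨e⟩ := iso_pullback_inv (k := k) (X := X) E
  have hM : PicF.IsInvertible M := PicCl.isInvertible_pullback _ (isInvertible_of_rank_one hok.1.2)
  refine ⟨hM, ?_⟩
  let t : Spec (CommRingCat.of k) ⟶ (𝟙_ (Over (Spec (CommRingCat.of k)))).left := 𝟙 _
  have h := hok.2 k t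
  letI : (PicF.XT (X ↘ Spec (CommRingCat.of k)) (Over.mk (t ≫ (𝟙_ (Over (Spec (CommRingCat.of k)))).hom))).Over
      (Spec (CommRingCat.of k)) := ⟨PicF.XTproj _ _⟩
  let g : Over.mk (t ≫ (𝟙_ (Over (Spec (CommRingCat.of k)))).hom) ⟶ 𝟙_ (Over (Spec (CommRingCat.of k))) :=
    Over.homMk t rfl
  have hg : PicF.XTmap (X ↘ Spec (CommRingCat.of k)) g ≫ prI k X = pullback.fst _ _ := by
    rw [prI, PicF.XTmap, pullback.lift_fst, Category.comp_id]
  change Curv2.deg k _ ((Scheme.Modules.pullback (PicF.XTmap (X ↘ Spec (CommRingCat.of k)) g)).obj E) 1 = 0 at h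
  rw [deg_iso' k ((Scheme.Modules.pullback _).mapIso e ≪≫ (Scheme.Modules.pullbackComp _ _).app M ≪≫
    (Scheme.Modules.pullbackCongr hg).app M)] at h
  exact (deg_fibre hdim hM k (t ≫ (𝟙_ (Over (Spec (CommRingCat.of k)))).hom)).symm.trans h

variable {J : Over (Spec (CommRingCat.of k))} [GrpObj J]
  (ψ : (ModFun.PicDeg (X ↘ Spec (CommRingCat.of k)) 0).Hom ⊤ J)

/-- The point of the Jacobian of a module of degree zero. -/
def pt (M : X.Modules) (hM : PicF.IsInvertible M) (hd : Curv2.deg k X M 1 = 0) :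
    𝟙_ (Over (Spec (CommRingCat.of k))) ⟶ J :=
  ψ.app _ ((Scheme.Modules.pullback (prI k X)).obj M) trivial (ok_of_iso hdim hM hd (Iso.refl _))

/-- Isomorphic families have the same point. -/
theorem app_eq_of_iso {T : Over (Spec (CommRingCat.of k))}
    {E E' : (PicF.XT (X ↘ Spec (CommRingCat.of k)) T).Modules}
    (hE : (ModFun.PicDeg (X ↘ Spec (CommRingCat.of k)) 0).ok T E)
    (hE' : (ModFun.PicDeg (X ↘ Spec (CommRingCat.of k)) 0).ok T E') (e : E ≅ E') :
    ψ.app T E trivial hE = ψ.app T E' trivial hE' :=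
  ψ.resp E E' trivial hE hE' ⟨Coh.structureModule T.left, LFFrame.isInvertible_structureModule _, ⟨e.symm ≪≫
    (SecTwist.unitorR E).symm ≪≫ ProjTwist.tensCongr (Iso.refl E) (QCoh.pullbackUnitIso _).symm⟩⟩

theorem pt_eq_of_iso {M N : X.Modules} (hM : PicF.IsInvertible M) (hdM : Curv2.deg k X M 1 = 0)
    (hN : PicF.IsInvertible N) (hdN : Curv2.deg k X N 1 = 0) (e : M ≅ N) :
    pt hdim ψ M hM hdM = pt hdim ψ N hN hdN :=
  app_eq_of_iso hdim ψ _ _ ((Scheme.Modules.pullback (prI k X)).mapIso e)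

theorem pt_of_family {E : (PicF.XT (X ↘ Spec (CommRingCat.of k)) (𝟙_ (Over (Spec (CommRingCat.of k))))).Modules}
    (hok : (ModFun.PicDeg (X ↘ Spec (CommRingCat.of k)) 0).ok _ E) {M : X.Modules} (hM : PicF.IsInvertible M)
    (hd : Curv2.deg k X M 1 = 0) (e : (Scheme.Modules.pullback (inv (prI k X))).obj E ≅ M) :
    ψ.app _ E trivial hok = pt hdim ψ M hM hd := by
  obtain ⟨e'⟩ := iso_pullback_inv (k := k) (X := X) E
  exact app_eq_of_iso hdim ψ _ _ (e' ≪≫ (Scheme.Modules.pullback (prI k X)).mapIso e)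

variable [IsCommMonObj J] (hJ : Jac.IsJacobian (X ↘ Spec (CommRingCat.of k)) ⊤ J ψ)
include hJ

theorem pt_mul {M N L : X.Modules} (hM : PicF.IsInvertible M) (hdM : Curv2.deg k X M 1 = 0)
    (hN : PicF.IsInvertible N) (hdN : Curv2.deg k X N 1 = 0)
    (hL : PicF.IsInvertible L) (hdL : Curv2.deg k X L 1 = 0) (e : L ≅ CohB1.tensorMod M N) :
    pt hdim ψ L hL hdL = pt hdim ψ M hM hdM * pt hdim ψ N hN hdN :=
  hJ.mul _ trivial _ _ _ _ _ _ ⟨(Scheme.Modules.pullback (prI k X)).mapIso e ≪≫
    KFlat.PullTensor.pullTensorIso (prI k X) M N⟩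

end Groth.Agent.JacPts
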