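import Groth.Agent.FF.Small
import Groth.Agent.FF.Linear
import Groth.Agent.FFCurve.Special

/-!
# The equality case of Clifford's theorem
-/

set_option autoImplicit false
set_option linter.style.haveILetI false
set_option linter.unusedSectionVars false

open FunFld Groth.Agent Groth.Agent.FFCurve

namespace Groth.Agent.JacPts.CliffEq

variable {k K : Type*} [Field k] [IsAlgClosed k] [Field K] [Algebra k K] (hK : IsFunctionField k K)
include hK

theorem exists_g12_aux {C : Divisor k K} (hC : IsCanonical k K C) : ∀ (n : ℕ) (D : Divisor k K),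
    D.deg = n → 0 < D.deg → D.deg < 2 * (genus k K : ℤ) - 2 → 2 * (ell D : ℤ) = D.deg + 2 →
    ∃ E : Divisor k K, E.deg = 2 ∧ 2 ≤ ell E := by
  intro n
  induction n using Nat.strong_induction_on with
  | _ n ih =>
    intro D hn hpos hlt heq
    classical
    by_cases h2 : D.deg = 2
    · exact ⟨D, h2, by omega⟩
    have hrr := FF.riemann_roch hK hC D
    have hdC := FF.deg_canonical hK hC
    have hCD : 0 < ell (C - D) := by omega
    obtain ⟨u, hu, hu0⟩ := FF.exists_nonneg_equiv hK hCD
    set E := C - D + FunFld.div k u with hE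
    have hEd : E.deg = 2 * (genus k K : ℤ) - 2 - D.deg := by
      rw [hE, FF.deg_add, FF.deg_sub, FF.deg_div hK.1, hdC, add_zero]
    obtain ⟨P, hP⟩ : ∃ P, E P ≠ 0 := by
      by_contra! h
      have : E = 0 := Finsupp.ext fun P => by rw [h P]; rfl
      rw [this, FF.deg_zero'] at hEd
      omega
    obtain ⟨Q, hQ⟩ := exists_place_not_mem hK E.support
    have hQE : E Q = 0 := Finsupp.notMem_support_iff.1 hQ
    have h1 := FF.ell_sub_single_le hK D P
    have h1' := FF.ell_sub_single_le hK (D - Finsupp.single P 1) Q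
    rw [FF.deg_eq_one hK] at h1 h1'
    obtain ⟨w, hw, hw0⟩ := FF.exists_nonneg_equiv hK
      (D := D - Finsupp.single P 1 - Finsupp.single Q 1) (by omega)
    set D₀ := D + FunFld.div k w with hD₀
    have hPQ : P ≠ Q := fun h => hP (h ▸ hQE)
    have hD₀P : 1 ≤ D₀ P := by
      have := hw0 P
      simp only [Finsupp.coe_zero, Pi.zero_apply, Finsupp.add_apply, Finsupp.sub_apply,
        Finsupp.single_eq_same, Finsupp.single_eq_of_ne hPQ] at this
      simp only [hD₀, Finsupp.add_apply]
      omega
    have hD₀Q : 1 ≤ D₀ Q := by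
      have := hw0 Q
      simp only [Finsupp.coe_zero, Pi.zero_apply, Finsupp.add_apply, Finsupp.sub_apply,
        Finsupp.single_eq_same, Finsupp.single_eq_of_ne hPQ.symm] at this
      simp only [hD₀, Finsupp.add_apply]
      omega
    have hD₀0 : 0 ≤ D₀ := fun R => by
      have := hw0 R
      simp only [Finsupp.coe_zero, Pi.zero_apply, Finsupp.add_apply, Finsupp.sub_apply,
        Finsupp.single_apply] at this
      simp only [hD₀, Finsupp.coe_zero, Pi.zero_apply, Finsupp.add_apply]
      split_ifs at this <;> omega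
    set D' := D₀ ⊓ E with hD'
    set U := D₀ ⊔ E with hU
    have hsum : D' + U = D₀ + E := Finsupp.ext fun R => by
      simp only [hD', hU, Finsupp.add_apply, Finsupp.inf_apply, Finsupp.sup_apply]
      exact min_add_max _ _
    haveI := FF.finiteDimensional_L hK.1 D₀
    haveI := FF.finiteDimensional_L hK.1 E
    haveI := FF.finiteDimensional_L hK.1 D'
    haveI := FF.finiteDimensional_L hK.1 U
    have hinf : L D₀ ⊓ L E ≤ L D' := fun x hx R => by
      obtain ⟨h1, h2⟩ := hx
      rw [hD', Finsupp.inf_apply]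
      rcases le_total (D₀ R) (E R) with h | h
      · rw [min_eq_left h]; exact h1 R
      · rw [min_eq_right h]; exact h2 R
    have hsup : L D₀ ⊔ L E ≤ L U := sup_le (FF.L_mono le_sup_left) (FF.L_mono le_sup_right)
    have hdim := Submodule.finrank_sup_add_finrank_inf_eq (L D₀) (L E)
    have hm1 := Submodule.finrank_mono hinf
    have hm2 := Submodule.finrank_mono hsup
    have hlD₀ : ell D₀ = ell D := FF.ell_add_div hK hw
    have hlE : ell E = ell (C - D) := FF.ell_add_div hK hu
    have hlU : ell U = ell (C - D') := by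
      have : U = C - D' + FunFld.div k (w * u) := by
        rw [FF.div_mul hK.1 hw hu, eq_sub_of_add_eq' hsum, hD₀, hE]; abel
      rw [this, FF.ell_add_div hK (mul_ne_zero hw hu)]
    have hD'0 : 0 ≤ D' := le_inf hD₀0 hu0
    have hU0 : 0 ≤ U := hD₀0.trans le_sup_left
    have hl'pos : 0 < ell D' :=
      Module.finrank_pos_iff.2 ⟨⟨⟨1, FF.one_mem_L hK hD'0⟩, 0, fun h => one_ne_zero (congrArg Subtype.val h)⟩⟩
    have hlUpos : 0 < ell U :=
      Module.finrank_pos_iff.2 ⟨⟨⟨1, FF.one_mem_L hK hU0⟩, 0, fun h => one_ne_zero (congrArg Subtype.val h)⟩⟩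
    have hcl := FF.ell_add_ell_le hK (FF.deg_eq_one hK P) hl'pos (B := C - D') (by omega)
    rw [add_sub_cancel, FF.ell_canonical hK hC] at hcl
    have hrr' := FF.riemann_roch hK hC D'
    have hdeg' : 0 < D'.deg ∧ D'.deg < D.deg := by
      constructor
      · have hle : Finsupp.single P 1 ≤ D' := fun R => by
          rw [Finsupp.single_apply]
          split_ifs with h
          · subst h
            rw [hD', Finsupp.inf_apply]
            have := hu0 P
            simp only [Finsupp.coe_zero, Pi.zero_apply] at this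
            exact le_min hD₀P (by omega)
          · exact hD'0 R
        have := FF.deg_mono hle
        rw [FF.deg_single, FF.deg_eq_one hK] at this
        omega
      · have hle : D' + Finsupp.single Q 1 ≤ D₀ := fun R => by
          rw [Finsupp.add_apply, Finsupp.single_apply, hD', Finsupp.inf_apply]
          split_ifs with h
          · subst h
            rw [hQE]
            have : min (D₀ Q) 0 ≤ 0 := min_le_right _ _
            omega
          · rw [add_zero]; exact min_le_left _ _
        have := FF.deg_mono hle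
        rw [FF.deg_add, FF.deg_single, FF.deg_eq_one hK, hD₀, FF.deg_add, FF.deg_div hK.1] at this
        omega
    change _ = ell D₀ + ell E at hdim
    change _ ≤ ell D' at hm1
    change _ ≤ ell U at hm2
    exact ih D'.deg.toNat (by omega) D' (by omega) hdeg'.1 (by omega) (by omega)

theorem succ_le_ell_nsmul {E : Divisor k K} (hE : 2 ≤ ell E) :
    ∀ n : ℕ, n + 1 ≤ ell (n • E) := by
  intro n
  induction n with
  | zero => simp [FF.ell_zero hK]
  | succ n ih =>
    obtain ⟨P, -⟩ := exists_place_not_mem hK (∅ : Finset (Place k K))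
    have := FF.ell_add_ell_le hK (FF.deg_eq_one hK P) (A := n • E) (B := E) (by omega) (by omega)
    rw [succ_nsmul]
    omega

theorem deg_nsmul' (E : Divisor k K) (n : ℕ) : (n • E).deg = n * E.deg := by
  induction n with
  | zero => simp [FF.deg_zero']
  | succ n ih => rw [succ_nsmul, FF.deg_add, ih]; push_cast; ring

theorem eq_canonical {C F : Divisor k K} (hC : IsCanonical k K C)
    (hd : F.deg = 2 * (genus k K : ℤ) - 2) (hl : genus k K ≤ ell F) :
    ∃ z : K, z ≠ 0 ∧ F = C + FunFld.div k z := by
  have hrr := FF.riemann_roch hK hC F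
  obtain ⟨z, hz, he⟩ := FF.principal_of_ell_pos hK (D := C - F)
    (by rw [FF.deg_sub, FF.deg_canonical hK hC, hd, sub_self]) (by omega)
  exact ⟨z, hz, (eq_of_sub_eq_zero (by rw [← he]; abel)).symm⟩

/-- In the equality case of Clifford the divisor is a multiple of a `g^1_2`. -/
theorem clifford_eq {D : Divisor k K} (hpos : 0 < D.deg)
    (hlt : D.deg < 2 * (genus k K : ℤ) - 2) (heq : 2 * (ell D : ℤ) = D.deg + 2) :
    ∃ E : Divisor k K, E.deg = 2 ∧ 2 ≤ ell E ∧
      ∃ z : K, z ≠ 0 ∧ D = (ell D - 1) • E + FunFld.div k z := by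
  obtain ⟨C, hC⟩ := FF.exists_canonical hK
  obtain ⟨E, hEd, hEl⟩ := exists_g12_aux hK hC D.deg.toNat D (by omega) hpos hlt heq
  refine ⟨E, hEd, hEl, ?_⟩
  obtain ⟨P, -⟩ := exists_place_not_mem hK (∅ : Finset (Place k K))
  set r := ell D - 1 with hr
  obtain ⟨m, hm⟩ : ∃ m : ℕ, genus k K = 1 + r + m := ⟨genus k K - 1 - r, by omega⟩
  have hme := succ_le_ell_nsmul hK hEl m
  have hge := succ_le_ell_nsmul hK hEl (r + m)
  have h3 := FF.ell_add_ell_le hK (FF.deg_eq_one hK P) (A := D) (B := m • E) (by omega) (by omega)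
  obtain ⟨z, hz, hz'⟩ := eq_canonical hK hC (F := D + m • E)
    (by rw [FF.deg_add, deg_nsmul' hK, hEd]; omega) (by omega)
  obtain ⟨y, hy, hy'⟩ := eq_canonical hK hC (F := (r + m) • E)
    (by rw [deg_nsmul' hK, hEd]; omega) (by omega)
  refine ⟨z * y⁻¹, mul_ne_zero hz (inv_ne_zero hy), ?_⟩
  rw [FF.div_mul hK.1 hz (inv_ne_zero hy), FF.div_inv hK.1]
  rw [add_nsmul] at hy'
  calc D = (D + m • E) - m • E := by abel
    _ = C + FunFld.div k z - m • E := by rw [hz']
    _ = (r • E + m • E - FunFld.div k y) + FunFld.div k z - m • E := by rw [hy']; abel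
    _ = r • E + (FunFld.div k z + -FunFld.div k y) := by abel

end Groth.Agent.JacPts.CliffEq
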