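import Groth.Agent.JacPts.Pencil
import Groth.Agent.PicLaw.Swap

/-!
# Riemann-Roch consequences of Clifford index three in genus nine
-/

set_option autoImplicit false
set_option linter.style.haveILetI false
set_option linter.unusedSectionVars false
set_option backward.isDefEq.respectTransparency false
set_option backward.isDefEq.respectTransparency.types false

universe u

noncomputable section

open CategoryTheory AlgebraicGeometry TopologicalSpace FunFld
open Groth.Agent.FFCurve

namespace Groth.Agent.JacPts.CliffG9

variable {X : Scheme.{u}} [IsIntegral X] (k : Type u) [Field k] [IsAlgClosed k]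
  [X.Over (Spec (CommRingCat.of k))] [IsProper (X ↘ Spec (CommRingCat.of k))]
  [RegCurve X] (hdim : topologicalKrullDim X = 1) (hg : Curv2.genus k X = 9)
  (hmin : ∀ M : X.Modules, PicF.IsInvertible M → 2 ≤ Module.finrank k (Coh.HH X M 0) →
      2 ≤ Module.finrank k (Coh.HH X M 1) → 2 * (Module.finrank k (Coh.HH X M 0) : ℤ) + 1 ≤ Curv2.deg k X M 1)
include hdim hg

theorem genus_ff : genus k X.functionField = 9 := by
  rw [← genus_eq_genus k hdim (isFF' k hdim), hg]

include hmin

theorem cliff (D : Divisor k X.functionField) (h0 : 2 ≤ ell D) (h1 : D.deg + 1 + 2 ≤ 9 + (ell D : ℤ)) :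
    2 * (ell D : ℤ) + 1 ≤ D.deg := by
  have hK := isFF' (X := X) k hdim
  obtain ⟨M, hM, a, ha, h⟩ := exists_divOf_eq k hdim D
  have he := divEq_of_sub k hdim ha h
  have e0 : Module.finrank k (Coh.HH X M 0) = ell D := by
    rw [finrank_zero k hdim hK hM, DivEq.ell_eq k hdim he]
  have e1 : (Module.finrank k (Coh.HH X M 1) : ℤ) = (ell D : ℤ) - D.deg - 1 + 9 := by
    rw [finrank_one k hdim hK hM, DivEq.ell_eq k hdim he, DivEq.deg_eq k hdim he, genus_ff k hdim hg]
    rfl
  have := hmin M hM (by omega) (by omega)
  rw [e0, deg_eq k hdim hK hM, DivEq.deg_eq k hdim he] at this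
  exact this

theorem ell_le_of_deg_ten {D : Divisor k X.functionField} (hd : D.deg = 10) : ell D ≤ 4 := by
  by_contra h
  have := cliff k hdim hg hmin D (by omega) (by omega)
  omega

theorem ell_le_of_deg_twelve {D : Divisor k X.functionField} (hd : D.deg = 12) : ell D ≤ 5 := by
  by_contra h
  have := cliff k hdim hg hmin D (by omega) (by omega)
  omega

theorem ell_le_of_deg_two {D : Divisor k X.functionField} (hd : D.deg = 2) : ell D ≤ 1 := by
  by_contra h
  have := cliff k hdim hg hmin D (by omega) (by omega)
  omega

end Groth.Agent.JacPts.CliffG9
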