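import Groth.Agent.S11337
import Groth.Agent.VBLib.Line
import Groth.Agent.VBLib.SplitOne
import Groth.Agent.FF.Linear

/-!
# Clifford's inequality for invertible subsheaves of the canonical sheaf
-/

set_option autoImplicit false
set_option linter.style.haveILetI false
set_option backward.isDefEq.respectTransparency false
set_option backward.isDefEq.respectTransparency.types false

universe u

open CategoryTheory CategoryTheory.Limits AlgebraicGeometry FunFld
open Groth.Agent Groth.Agent.FFCurve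

namespace Groth.Agent.JacPts.CliffStable

section field

variable {k : Type u} {K : Type u} [Field k] [IsAlgClosed k] [Field K] [Algebra k K]
  (hK : IsFunctionField k K)
include hK

/-- Clifford's inequality up to degree `2g - 2`. -/
theorem clifford_le {D : Divisor k K} (hlt : D.deg ≤ 2 * (genus k K : ℤ) - 2)
    (hl : 0 < ell D) : 2 * (ell D : ℤ) ≤ D.deg + 2 := by
  obtain ⟨C, hC⟩ := FF.exists_canonical hK
  have hrr := FF.riemann_roch hK hC D
  obtain ⟨P, -⟩ := exists_place_not_mem hK (∅ : Finset (Place k K))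
  by_cases h : 0 < ell (C - D)
  · have := FF.ell_add_ell_le hK (FF.deg_eq_one hK P) hl h
    rw [show D + (C - D) = C by abel, FF.ell_canonical hK hC] at this
    omega
  · omega

end field

variable (k : Type u) [Field k] [IsAlgClosed k] {X : Scheme.{u}} [X.Over (Spec (CommRingCat.of k))]
  [IsIntegral X] [IsProper (X ↘ (Spec (CommRingCat.of k)))] [RegCurve X]
  [Smooth (X ↘ (Spec (CommRingCat.of k)))] (hdim : topologicalKrullDim X = 1)
include hdim

/-- A proper invertible subsheaf of the canonical sheaf with two sections. -/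
theorem facts {M : X.Modules} (hM : PicF.IsInvertible M)
    (ι : M ⟶ Omega.sheaf (X ↘ (Spec (CommRingCat.of k)))) [Mono ι] (hι : ¬ IsIso ι)
    (h2 : 2 ≤ Module.finrank k (Coh.HH X M 0)) :
    (divOf k hdim hM).deg < 2 * (genus k X.functionField : ℤ) - 2 ∧
      2 ≤ ell (divOf k hdim hM) ∧ 2 * (ell (divOf k hdim hM) : ℤ) ≤ (divOf k hdim hM).deg + 2 := by
  have hK := isFunctionField_of_isAlgClosed (X := X) k hdim
  have hΩ := isInvertible_omega (X := X) k hdim
  have hX := VBLib.goodCurve_of_smooth (k := k) hdim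
  have hMr := VBLib.ofRank_one_of_invertible hM
  have hΩr := VBLib.ofRank_one_of_invertible hΩ
  have hne : ι ≠ 0 := by
    intro h0
    have := VBLib.rk_eq_zero_of_isZero (IsZero.of_mono_eq_zero ι h0)
    rw [VBLib.rk_eq hMr] at this
    omega
  obtain ⟨-, hle, heq⟩ := hX.line_hom (VBLib.isFinLocFree_of_ofRank hMr) (VBLib.isFinLocFree_of_ofRank hΩr)
    (VBLib.rk_eq hMr) (VBLib.rk_eq hΩr) ι hne
  have hlt : VBLib.dg k M < VBLib.dg k (Omega.sheaf (X ↘ Spec (CommRingCat.of k))) :=
    lt_of_le_of_ne hle fun h => hι (heq h)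
  rw [← VBLib.dg_eq hMr, ← VBLib.dg_eq hΩr, deg_omega k hdim, deg_eq k hdim hK hM,
    genus_eq_genus k hdim hK] at hlt
  rw [finrank_zero k hdim hK hM] at h2
  exact ⟨hlt, h2, clifford_le hK hlt.le (by omega)⟩

/-- The required product inequality. -/
theorem stable_le {M : X.Modules} (hg : 3 ≤ Curv2.genus k X) (hM : PicF.IsInvertible M)
    (ι : M ⟶ Omega.sheaf (X ↘ (Spec (CommRingCat.of k)))) [Mono ι] (hι : ¬ IsIso ι)
    (h2 : 2 ≤ Module.finrank k (Coh.HH X M 0)) :
    Curv2.deg k X (Omega.sheaf (X ↘ (Spec (CommRingCat.of k)))) 1 * ((Module.finrank k (Coh.HH X M 0) : ℤ) - 1) ≤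
      Curv2.deg k X M 1 * ((Module.finrank k (Coh.HH X (Omega.sheaf (X ↘ (Spec (CommRingCat.of k)))) 0) : ℤ) - 1) := by
  obtain ⟨h1, h3, h4⟩ := facts k hdim hM ι hι h2
  have hK := isFunctionField_of_isAlgClosed (X := X) k hdim
  rw [deg_omega k hdim, finrank_omega_zero k hdim, deg_eq k hdim hK hM, finrank_zero k hdim hK hM,
    genus_eq_genus k hdim hK]
  rw [genus_eq_genus k hdim hK] at hg
  nlinarith

/-- Strictness off the hyperelliptic case. -/
theorem stable_lt {M : X.Modules} (hg : 3 ≤ Curv2.genus k X)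
    (hnh : ¬ ∃ (N : X.Modules) (t : Fin 2 → LinSer.Sect X N), LinSer.IsLinSer k X N 2 1 t)
    (hM : PicF.IsInvertible M)
    (ι : M ⟶ Omega.sheaf (X ↘ (Spec (CommRingCat.of k)))) [Mono ι] (hι : ¬ IsIso ι)
    (h2 : 2 ≤ Module.finrank k (Coh.HH X M 0)) :
    Curv2.deg k X (Omega.sheaf (X ↘ (Spec (CommRingCat.of k)))) 1 * ((Module.finrank k (Coh.HH X M 0) : ℤ) - 1) <
      Curv2.deg k X M 1 * ((Module.finrank k (Coh.HH X (Omega.sheaf (X ↘ (Spec (CommRingCat.of k)))) 0) : ℤ) - 1) := by
  obtain ⟨h1, h3, h4⟩ := facts k hdim hM ι hι h2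
  have hK := isFunctionField_of_isAlgClosed (X := X) k hdim
  have h5 : 2 * (ell (divOf k hdim hM) : ℤ) ≠ (divOf k hdim hM).deg + 2 := by
    intro heq
    obtain ⟨E, hEd, hEl, -, -, -⟩ := CliffEq.clifford_eq hK (D := divOf k hdim hM) (by omega) h1 heq
    obtain ⟨N, hN, a, ha, hNE⟩ := exists_divOf_eq (X := X) k hdim E
    have hNd : (divOf k hdim hN).deg = 2 := by
      rw [hNE, FF.deg_sub, FF.deg_div hK.1, hEd, sub_zero]
    have hNl : 2 ≤ ell (divOf k hdim hN) := by
      rw [hNE, sub_eq_add_neg, ← FF.div_inv hK.1, FF.ell_add_div hK (inv_ne_zero ha)]; exact hEl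
    obtain ⟨s, hs⟩ := S11337.exists_linIndep k X hdim hN hNl
    exact hnh ⟨N, s, hN, by rw [deg_eq k hdim hK hN, hNd]; rfl, hs⟩
  rw [deg_omega k hdim, finrank_omega_zero k hdim, deg_eq k hdim hK hM, finrank_zero k hdim hK hM,
    genus_eq_genus k hdim hK]
  rw [genus_eq_genus k hdim hK] at hg
  have h6 : 2 * (ell (divOf k hdim hM) : ℤ) < (divOf k hdim hM).deg + 2 := lt_of_le_of_ne h4 h5
  nlinarith

/-- Two independent sections give `ell ≥ 2`. -/
theorem two_le_ell {N : X.Modules} (hN : PicF.IsInvertible N) {t : Fin 2 → LinSer.Sect X N}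
    (hind : LinSer.LinIndep k X N t) : 2 ≤ ell (divOf k hdim hN) := by
  let c : Γ(N, ⊤) →+ X.functionField := crd (triv hN) ⊤ trivial
  have hmem : ∀ i, c (t i) ∈ FunFld.L (divOf k hdim hN) := fun i P => by
    obtain ⟨x, rfl⟩ := (placeEquiv k hdim).surjective P
    exact val_crd_le (triv hN) k hdim hN (W := ⊤) trivial (t i) x trivial
  let v : Fin 2 → ↥(FunFld.L (divOf k hdim hN)) := fun i => ⟨c (t i), hmem i⟩
  have hv : LinearIndependent k v := by
    rw [Fintype.linearIndependent_iff]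
    intro a ha
    have hlin : ∀ (r : k) (m : LinSer.Sect X N),
        c ((Coh.toGlobal (X ↘ Spec (CommRingCat.of k)) r) • m) = r • c m := fun r m => by
      refine (crd_smul (triv hN) ⊤ trivial _ m).trans ?_
      rw [Algebra.smul_def]; rfl
    have h0 : a = 0 := hind a (crd_injective (triv hN) hN ⊤ trivial (by
      have := congrArg Subtype.val ha
      simp only [Fin.sum_univ_two, v, Submodule.coe_add, Submodule.coe_smul, ZeroMemClass.coe_zero] at this
      show c _ = c 0
      simp only [Fin.sum_univ_two]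
      erw [map_add, hlin, hlin, map_zero]
      exact this))
    exact fun i => congrFun h0 i
  haveI := FF.finiteDimensional_L (isFunctionField_of_isAlgClosed (X := X) k hdim).1 (divOf k hdim hN)
  have := hv.fintype_card_le_finrank
  rw [Fintype.card_fin] at this
  exact this

/-- A `g^1_2` sits in the canonical sheaf. -/
theorem exists_mono_of_g12 (hg : 3 ≤ Curv2.genus k X) {N : X.Modules} {t : Fin 2 → LinSer.Sect X N}
    (hN : LinSer.IsLinSer k X N 2 1 t) :
    ∃ ι : N ⟶ Omega.sheaf (X ↘ (Spec (CommRingCat.of k))), Mono ι ∧ ¬ IsIso ι ∧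
      Curv2.deg k X (Omega.sheaf (X ↘ (Spec (CommRingCat.of k)))) 1 * ((Module.finrank k (Coh.HH X N 0) : ℤ) - 1) =
        Curv2.deg k X N 1 * ((Module.finrank k (Coh.HH X (Omega.sheaf (X ↘ (Spec (CommRingCat.of k)))) 0) : ℤ) - 1) := by
  obtain ⟨hNi, hNd, hind⟩ := hN
  have hK := isFunctionField_of_isAlgClosed (X := X) k hdim
  have hΩ := isInvertible_omega (X := X) k hdim
  have hl : 2 ≤ ell (divOf k hdim hNi) := two_le_ell k hdim hNi hind
  have hd : (divOf k hdim hNi).deg = 2 := by
    rw [← deg_eq k hdim hK hNi]; exact_mod_cast hNd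
  have hgK : 3 ≤ genus k X.functionField := by rw [← genus_eq_genus k hdim hK]; exact hg
  have hle := clifford_le hK (D := divOf k hdim hNi) (by omega) (by omega)
  have hrr := FF.riemann_roch hK (isCanonical_omega (X := X) k hdim) (divOf k hdim hNi)
  obtain ⟨z, hz, hnn⟩ := FF.exists_nonneg_equiv hK
    (D := divOf k hdim hΩ - divOf k hdim hNi) (by omega)
  obtain ⟨θ, hθ⟩ := exists_hom_of_mul k hdim hNi hΩ z fun P => by
    have hP := hnn P
    rw [Finsupp.coe_zero, Pi.zero_apply, Finsupp.add_apply, Finsupp.sub_apply, div_apply' k hdim] at hP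
    rw [FF.val_eq_exp_ord P hz, ← WithZero.exp_add, WithZero.exp_le_exp]
    omega
  have hne : θ ≠ 0 := by
    intro h0
    subst h0
    have := hθ ((triv hNi).symm 1)
    rw [LinearEquiv.apply_symm_apply, mul_one] at this
    refine hz (this.symm.trans ?_)
    simp [RefHull.stalkMapₗ, show Scheme.Modules.Hom.mapPresheaf (0 : N ⟶ Omega.sheaf (X ↘ Spec (CommRingCat.of k))) = 0 from rfl]
  have hX := VBLib.goodCurve_of_smooth (k := k) hdim
  have hMr := VBLib.ofRank_one_of_invertible hNi
  have hΩr := VBLib.ofRank_one_of_invertible hΩ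
  obtain ⟨hm, -, -⟩ := hX.line_hom (VBLib.isFinLocFree_of_ofRank hMr) (VBLib.isFinLocFree_of_ofRank hΩr)
    (VBLib.rk_eq hMr) (VBLib.rk_eq hΩr) θ hne
  refine ⟨θ, hm, fun hiso => ?_, ?_⟩
  · obtain ⟨a, ha, e⟩ := exists_div_of_iso k hdim hNi hΩ (asIso θ)
    have := congrArg FunFld.Divisor.deg e
    rw [FF.deg_sub, hd, FF.deg_div hK.1, FF.deg_canonical hK (isCanonical_omega (X := X) k hdim)] at this
    omega
  · rw [deg_omega k hdim, finrank_omega_zero k hdim, deg_eq k hdim hK hNi, finrank_zero k hdim hK hNi,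
      genus_eq_genus k hdim hK, hd, show ell (divOf k hdim hNi) = 2 by omega]
    push_cast
    ring

end Groth.Agent.JacPts.CliffStable
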