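import Groth.Agent.JacPts.Basic
import Groth.Agent.FFCurve.Genus
import Groth.Prelude.Def_SymProd
import Mathlib.LinearAlgebra.Matrix.NonsingularInverse
import Mathlib.LinearAlgebra.Matrix.ToLin

/-!
# General tuples of rational points impose independent conditions
-/

set_option autoImplicit false
set_option linter.style.haveILetI false
set_option linter.unusedSectionVars false
set_option backward.isDefEq.respectTransparency false
set_option backward.isDefEq.respectTransparency.types false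
set_option maxHeartbeats 800000

universe u

noncomputable section

open CategoryTheory CategoryTheory.Limits AlgebraicGeometry TopologicalSpace FunFld WithZero
open Groth.Agent.FFCurve Groth.Agent.CurveCoh

namespace Groth.Agent.JacPts

/-- Evaluation of functions at a rational point of an open. -/
def ev {k : Type u} [Field k] {Z : Scheme.{u}} (p : Spec (CommRingCat.of k) ⟶ Z) (W : Z.Opens)
    (h : ⊤ ≤ p ⁻¹ᵁ W) : Γ(Z, W) →+* k :=
  (Scheme.ΓSpecIso (CommRingCat.of k)).hom.hom.comp (p.appLE W ⊤ h).hom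

theorem ev_eq_zero_iff {k : Type u} [Field k] {Z : Scheme.{u}} (p : Spec (CommRingCat.of k) ⟶ Z) (W : Z.Opens)
    (h : ⊤ ≤ p ⁻¹ᵁ W) (s : Γ(Z, W)) :
    ev p W h s = 0 ↔ p.base (IsLocalRing.closedPoint k) ∉ Z.basicOpen s := by
  have h1 : ev p W h s = 0 ↔ p.appLE W ⊤ h s = 0 :=
    map_eq_zero_iff _ (ConcreteCategory.bijective_of_isIso (Scheme.ΓSpecIso (CommRingCat.of k)).hom).1
  have h2 : (Spec (CommRingCat.of k)).basicOpen (p.appLE W ⊤ h s) = p ⁻¹ᵁ Z.basicOpen s := by
    rw [Scheme.basicOpen_appLE, top_inf_eq]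
  constructor
  · intro h0 hm
    have : IsLocalRing.closedPoint k ∈ p ⁻¹ᵁ Z.basicOpen s := hm
    rw [← h2, h1.1 h0, Scheme.basicOpen_zero] at this
    exact this
  · intro hm
    by_contra h0
    refine hm ?_
    show IsLocalRing.closedPoint k ∈ p ⁻¹ᵁ Z.basicOpen s
    rw [← h2]
    have hu : IsUnit (p.appLE W ⊤ h s) := by
      have : IsUnit (ev p W h s) := isUnit_iff_ne_zero.2 h0
      have h3 := this.map (Scheme.ΓSpecIso (CommRingCat.of k)).inv.hom
      simpa [ev] using h3
    rw [Scheme.basicOpen_of_isUnit _ hu]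
    trivial

theorem top_le {k : Type u} [Field k] {Z : Scheme.{u}} (p : Spec (CommRingCat.of k) ⟶ Z) (W : Z.Opens)
    (h : p.base (IsLocalRing.closedPoint k) ∈ W) : ⊤ ≤ p ⁻¹ᵁ W := fun w _ => by
  haveI : Subsingleton ↥(Spec (CommRingCat.of k)) := inferInstanceAs (Subsingleton (PrimeSpectrum k))
  show p.base w ∈ W
  rw [Subsingleton.elim w (IsLocalRing.closedPoint k)]
  exact h

variable {X : Scheme.{u}} [IsIntegral X] (k : Type u) [Field k] [IsSepClosed k]
  [X.Over (Spec (CommRingCat.of k))] [IsProper (X ↘ Spec (CommRingCat.of k))]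
  [Smooth (X ↘ Spec (CommRingCat.of k))] [RegCurve X] (hdim : topologicalKrullDim X = 1)
include hdim

omit [IsSepClosed k] [Smooth (X ↘ Spec (CommRingCat.of k))] in
theorem ev_kMap {p : Spec (CommRingCat.of k) ⟶ X} (hp : p ≫ (X ↘ Spec (CommRingCat.of k)) = 𝟙 _)
    (W : X.Opens) (h : ⊤ ≤ p ⁻¹ᵁ W) (c : k) : ev p W h (kMap k W c) = c := by
  have h1 : p.appLE W ⊤ h (X.presheaf.map (homOfLE le_top).op (Coh.toGlobal (X ↘ Spec (CommRingCat.of k)) c)) =
      ((X ↘ Spec (CommRingCat.of k)).appTop ≫ p.appTop) ((Scheme.ΓSpecIso (CommRingCat.of k)).inv c) := by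
    rw [← ConcreteCategory.comp_apply, Scheme.Hom.map_appLE, CommRingCat.comp_apply]
    congr 1
  show (Scheme.ΓSpecIso (CommRingCat.of k)).hom (p.appLE W ⊤ h _) = c
  refine (congrArg _ h1).trans ?_
  rw [← Scheme.Hom.comp_appTop, hp]
  simp

/-- For `m ≤ ℓ(D)`, general tuples impose `m` conditions on `L(D)`. -/
theorem exists_open (σ₀ : Spec (CommRingCat.of k) ⟶ X) (hσ₀ : σ₀ ≫ (X ↘ Spec (CommRingCat.of k)) = 𝟙 _)
    (Dv : Divisor k X.functionField) {n m : ℕ} (hm : m ≤ ell Dv) (ι : Fin m → Fin n)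
    (hι : Function.Injective ι) :
    ∃ U : (SymProd.fibPow (X ↘ Spec (CommRingCat.of k)) n).Opens,
      (U : Set ↥(SymProd.fibPow (X ↘ Spec (CommRingCat.of k)) n)).Nonempty ∧
      ∀ (x : Spec (CommRingCat.of k) ⟶ SymProd.fibPow (X ↘ Spec (CommRingCat.of k)) n),
        (∀ p, x.base p ∈ U) →
        ∀ hq : ∀ i, (x ≫ WidePullback.π (fun (_ : Fin n) => (X ↘ Spec (CommRingCat.of k))) i) ≫
            (X ↘ Spec (CommRingCat.of k)) = 𝟙 _,
        ell (Dv - ∑ i, Finsupp.single (plc k hdim (hq i)) 1) + m ≤ ell Dv := by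
  classical
  have hK := isFunctionField k hdim hσ₀
  haveI := FF.finiteDimensional_L hK Dv
  let b := Module.finBasis k ↥(FunFld.L Dv)
  let f : Fin m → X.functionField := fun j => (b (Fin.castLE hm j)).1
  have hf : LinearIndependent k f :=
    (b.linearIndependent.map' (FunFld.L Dv).subtype (Submodule.ker_subtype _)).comp _ (Fin.castLE_injective hm)
  let S : Finset (ZetaLib.ClosedPt X) := Dv.support.map (placeEquiv k hdim).symm.toEmbedding
  let V : X.Opens := ⟨(⋃ x ∈ (S : Set (ZetaLib.ClosedPt X)), {x.1})ᶜ,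
    (S.finite_toSet.isClosed_biUnion fun x _ => x.2).isOpen_compl⟩
  have hV : ∀ x : ZetaLib.ClosedPt X, x.1 ∈ V ↔ Dv (toPlace k hdim x) = 0 := fun x => by
    show x.1 ∈ (⋃ y ∈ (S : Set (ZetaLib.ClosedPt X)), {y.1})ᶜ ↔ _
    simp only [Set.mem_compl_iff, Set.mem_iUnion, Set.mem_singleton_iff, exists_prop, not_exists, not_and,
      Finset.mem_coe]
    constructor
    · intro h
      by_contra hne
      refine h x (Finset.mem_map.2 ⟨toPlace k hdim x, Finsupp.mem_support_iff.2 hne, ?_⟩) rfl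
      exact (placeEquiv k hdim).symm_apply_apply x
    · rintro h y hy hxy
      obtain ⟨P, hP, rfl⟩ := Finset.mem_map.1 hy
      have : x = (placeEquiv k hdim).symm P := Subtype.ext hxy
      rw [this] at h
      exact Finsupp.mem_support_iff.1 hP (by
        have e : toPlace k hdim ((placeEquiv k hdim).symm P) = P := (placeEquiv k hdim).apply_symm_apply P
        rw [e] at h; exact h)
  have hηV : genericPoint X ∈ V := by
    obtain ⟨p, hp, hav⟩ := exists_ratPt_avoid X k hdim S
    refine genericPoint_mem (x := p.base (IsLocalRing.closedPoint k)) ?_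
    show _ ∈ (⋃ y ∈ (S : Set (ZetaLib.ClosedPt X)), {y.1})ᶜ
    simpa using hav
  have hreg : ∀ j, ∃ s : Γ(X, V), secK V hηV s = f j := fun j =>
    exists_secK_eq k hdim V hηV (f j) fun x hx => by
      have := (b (Fin.castLE hm j)).2 (toPlace k hdim x)
      rw [(hV x).1 hx, exp_zero] at this
      exact this
  choose s hs using hreg
  let P := SymProd.fibPow (X ↘ Spec (CommRingCat.of k)) n
  let pr : Fin n → (P ⟶ X) := fun i => WidePullback.π (fun (_ : Fin n) => (X ↘ Spec (CommRingCat.of k))) i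
  let U0 : P.Opens := ⟨⋂ i, (pr i ⁻¹ᵁ V : P.Opens), isOpen_iInter_of_finite fun i => (pr i ⁻¹ᵁ V).2⟩
  have hU0 : ∀ i, U0 ≤ pr i ⁻¹ᵁ V := fun i w hw => Set.mem_iInter.1 hw i
  let M : Matrix (Fin m) (Fin m) Γ(P, U0) := Matrix.of fun i j => (pr (ι i)).appLE V U0 (hU0 _) (s j)
  let U : P.Opens := P.basicOpen M.det
  have hMev : ∀ (x : Spec (CommRingCat.of k) ⟶ P) (h0 : ⊤ ≤ x ⁻¹ᵁ U0) (hv : ∀ i, ⊤ ≤ (x ≫ pr i) ⁻¹ᵁ V),
      ev x U0 h0 M.det = (Matrix.of fun i j => ev (x ≫ pr (ι i)) V (hv _) (s j)).det := by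
    intro x h0 hv
    rw [RingHom.map_det]
    congr 1
    ext i j
    show (Scheme.ΓSpecIso (CommRingCat.of k)).hom (((pr (ι i)).appLE V U0 (hU0 _) ≫ x.appLE U0 ⊤ h0) (s j)) = _
    rw [Scheme.Hom.appLE_comp_appLE]
    rfl
  -- the functions take independent values at rational points
  let T := {p : Spec (CommRingCat.of k) ⟶ X //
    p ≫ (X ↘ Spec (CommRingCat.of k)) = 𝟙 _ ∧ p.base (IsLocalRing.closedPoint k) ∈ V}
  let v : T → (Fin m → k) := fun p j => ev p.1 V (top_le p.1 V p.2.2) (s j)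
  have hspan : Submodule.span k (Set.range v) = ⊤ := by
    by_contra hne
    obtain ⟨φ, hφ0, hφ⟩ := Submodule.exists_le_ker_of_lt_top _ (lt_top_iff_ne_top.2 hne)
    let c : Fin m → k := fun j => φ (Pi.single j 1)
    let z : Γ(X, V) := ∑ j, kMap k V (c j) * s j
    have hzf : secK V hηV z = ∑ j, c j • f j := by
      simp only [z, map_sum, map_mul, secK_kMap, hs, Algebra.smul_def]
    have hz0 : secK V hηV z ≠ 0 := by
      rw [hzf]
      intro h
      have hc := Fintype.linearIndependent_iff.1 hf c h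
      refine hφ0 (LinearMap.pi_ext fun j a => ?_)
      rw [show Pi.single j a = a • Pi.single (M := fun _ : Fin m => k) j 1 by ext i; simp [Pi.single_apply], map_smul, LinearMap.zero_apply]
      show a • c j = 0
      rw [hc j, smul_zero]
    let Bad : Finset (ZetaLib.ClosedPt X) :=
      S ∪ (FF.finite_support_ord hK.1 (secK V hηV z)).toFinset.map (placeEquiv k hdim).symm.toEmbedding
    obtain ⟨p, hp, hav⟩ := exists_ratPt_avoid X k hdim Bad
    have hpV : p.base (IsLocalRing.closedPoint k) ∈ V := by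
      show _ ∈ (⋃ y ∈ (S : Set (ZetaLib.ClosedPt X)), {y.1})ᶜ
      simp only [Set.mem_compl_iff, Set.mem_iUnion, Set.mem_singleton_iff, exists_prop, not_exists, not_and,
        Finset.mem_coe]
      exact fun y hy => hav y (Finset.mem_union_left _ hy)
    have hord : (toPlace k hdim (cpt k hp)).ord (secK V hηV z) = 0 := by
      by_contra h
      refine hav (cpt k hp) (Finset.mem_union_right _ (Finset.mem_map.2
        ⟨toPlace k hdim (cpt k hp), (Set.Finite.mem_toFinset _).2 h, ?_⟩)) rfl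
      exact (placeEquiv k hdim).symm_apply_apply _
    have hev : ev p V (top_le p V hpV) z ≠ 0 := by
      rw [Ne, ev_eq_zero_iff, not_not]
      exact (isUnit_germ_iff k hdim (cpt k hp) hpV z).2 ((FF.val_eq_one_iff _ hz0).2 hord)
    refine hev ?_
    have h1 : φ (v ⟨p, hp, hpV⟩) = 0 := hφ (Submodule.subset_span ⟨_, rfl⟩)
    have h2 : v ⟨p, hp, hpV⟩ = ∑ j, v ⟨p, hp, hpV⟩ j • Pi.single (M := fun _ : Fin m => k) j 1 := by
      ext j; simp [Pi.single_apply]
    rw [h2, map_sum] at h1
    simp only [map_smul, smul_eq_mul] at h1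
    rw [← h1]
    simp only [z, map_sum, map_mul, ev_kMap k hdim hp]
    exact Finset.sum_congr rfl fun j _ => mul_comm _ _
  obtain ⟨g, hg, hgspan, hgli⟩ := Submodule.exists_fun_fin_finrank_span_eq k (Set.range v)
  have hcard : Module.finrank k ↥(Submodule.span k (Set.range v)) = m := by
    rw [hspan, finrank_top, Module.finrank_fin_fun]
  choose q hq using hg
  obtain ⟨p₀, hp₀, hav₀⟩ := exists_ratPt_avoid X k hdim S
  have hp₀V : p₀.base (IsLocalRing.closedPoint k) ∈ V := by
    show _ ∈ (⋃ y ∈ (S : Set (ZetaLib.ClosedPt X)), {y.1})ᶜ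
    simpa using hav₀
  let pt : Fin n → T := Function.extend ι (fun i => q (Fin.cast hcard.symm i)) (fun _ => ⟨p₀, hp₀, hp₀V⟩)
  have hdet : (Matrix.of fun i j => v (pt (ι i)) j).det ≠ 0 := by
    have hrw : (Matrix.of fun i j => v (pt (ι i)) j) = Matrix.of (g ∘ Fin.cast hcard.symm) := by
      ext i j
      simp only [Matrix.of_apply, pt, hι.extend_apply, Function.comp_apply, hq]
    rw [hrw, ← isUnit_iff_ne_zero, ← Matrix.isUnit_iff_isUnit_det, ← Matrix.linearIndependent_rows_iff_isUnit]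
    exact hgli.comp _ (Fin.cast_injective _)
  refine ⟨U, ?_, ?_⟩
  · let x : Spec (CommRingCat.of k) ⟶ P := WidePullback.lift (𝟙 _) (fun i => (pt i).1) (fun i => (pt i).2.1)
    have hxp : ∀ i, x ≫ pr i = (pt i).1 := fun i => WidePullback.lift_π _ _ _ _ i
    have h0 : x.base (IsLocalRing.closedPoint k) ∈ U0 := Set.mem_iInter.2 fun i => by
      show (x ≫ pr i).base (IsLocalRing.closedPoint k) ∈ V
      rw [hxp]; exact (pt i).2.2
    refine ⟨x.base (IsLocalRing.closedPoint k), ?_⟩
    by_contra hnot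
    refine hdet ?_
    have h1 := (ev_eq_zero_iff x U0 (top_le x U0 h0) M.det).2 hnot
    rw [hMev x _ (fun i => top_le _ _ (Set.mem_iInter.1 h0 i))] at h1
    rw [← h1]
    congr 1
    ext i j
    simp only [Matrix.of_apply, v, hxp]
  · intro x hxU hq'
    have h0 : x.base (IsLocalRing.closedPoint k) ∈ U0 := P.basicOpen_le _ (hxU _)
    have hv : ∀ i, (x ≫ pr i).base (IsLocalRing.closedPoint k) ∈ V := fun i => Set.mem_iInter.1 h0 i
    set E := ∑ i, Finsupp.single (plc k hdim (hq' i)) (1 : ℤ) with hE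
    have hdet' : (Matrix.of fun i j => ev (x ≫ pr (ι i)) V (top_le _ _ (hv _)) (s j)).det ≠ 0 := by
      rw [← hMev x (top_le x U0 h0) (fun i => top_le _ _ (hv i)), Ne, ev_eq_zero_iff, not_not]
      exact hxU _
    have hEnn : 0 ≤ E := Finset.sum_nonneg fun i _ => Finsupp.single_nonneg.2 zero_le_one
    have hle : FunFld.L (Dv - E) ≤ FunFld.L Dv := FF.L_mono (sub_le_self _ hEnn)
    have hspan' : Submodule.span k (Set.range f) ≤ FunFld.L Dv :=
      Submodule.span_le.2 (Set.range_subset_iff.2 fun j => (b _).2)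
    have hinf : FunFld.L (Dv - E) ⊓ Submodule.span k (Set.range f) = ⊥ := by
      refine (Submodule.eq_bot_iff _).2 fun z hz => ?_
      obtain ⟨c, rfl⟩ := (Submodule.mem_span_range_iff_exists_fun k).1 hz.2
      let w : Γ(X, V) := ∑ j, kMap k V (c j) * s j
      have hw : secK V hηV w = ∑ j, c j • f j := by
        simp only [w, map_sum, map_mul, secK_kMap, hs, Algebra.smul_def]
      have hzero : (Matrix.of fun i j => ev (x ≫ pr (ι i)) V (top_le _ _ (hv _)) (s j)).mulVec c = 0 := by
        ext i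
        show ∑ j, ev (x ≫ pr (ι i)) V (top_le _ _ (hv _)) (s j) * c j = 0
        have hevw : ev (x ≫ pr (ι i)) V (top_le _ _ (hv _)) w = 0 := by
          rw [ev_eq_zero_iff]
          intro hmem
          have h1 := (isUnit_germ_iff k hdim (cpt k (hq' (ι i))) (hv (ι i)) w).1 hmem
          have h2 := hz.1 (plc k hdim (hq' (ι i)))
          rw [← hw, show plc k hdim (hq' (ι i)) = toPlace k hdim (cpt k (hq' (ι i))) from rfl] at h2
          rw [h1, ← exp_zero, exp_le_exp, Finsupp.sub_apply, (hV (cpt k (hq' (ι i)))).1 (hv (ι i))] at h2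
          have h3 : (1 : ℤ) ≤ E (plc k hdim (hq' (ι i))) := by
            rw [hE, Finsupp.finset_sum_apply]
            refine le_trans (le_of_eq (Finsupp.single_eq_same).symm) (Finset.single_le_sum (f := fun i' =>
              (Finsupp.single (plc k hdim (hq' i')) (1 : ℤ)) (plc k hdim (hq' (ι i)))) (fun i' _ => ?_) (Finset.mem_univ (ι i)))
            exact Finsupp.single_nonneg.2 zero_le_one _
          change (0 : ℤ) ≤ 0 - E (plc k hdim (hq' (ι i))) at h2
          omega
        rw [← hevw]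
        simp only [w, map_sum, map_mul, ev_kMap k hdim (p := x ≫ pr (ι i)) (hq' (ι i))]
        exact Finset.sum_congr rfl fun j _ => mul_comm _ _
      have hc := Matrix.eq_zero_of_mulVec_eq_zero hdet' hzero
      simp [hc]
    haveI : FiniteDimensional k ↥(FunFld.L (Dv - E)) := FF.finiteDimensional_L hK _
    haveI : FiniteDimensional k ↥(Submodule.span k (Set.range f)) := FiniteDimensional.span_of_finite k (Set.finite_range f)
    have h1 := Submodule.finrank_sup_add_finrank_inf_eq (FunFld.L (Dv - E)) (Submodule.span k (Set.range f))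
    rw [hinf, finrank_bot, add_zero, finrank_span_eq_card hf, Fintype.card_fin] at h1
    calc ell (Dv - E) + m = _ := h1.symm
      _ ≤ ell Dv := Submodule.finrank_mono (sup_le hle hspan')

end Groth.Agent.JacPts
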