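import Groth.Agent.EulerChar.FiniteMap
import Groth.Agent.EulerChar.Torsion
import Groth.Agent.Omega.Transitivity
import Groth.Agent.Omega.SeparableMono
import Groth.Agent.Omega.DiagUniv
import Groth.Agent.FFCurve.Canonical

/-!
# The Hurwitz formula with the sheaf of relative differentials
-/

set_option autoImplicit false
set_option linter.style.haveILetI false
set_option backward.isDefEq.respectTransparency false
set_option backward.isDefEq.respectTransparency.types false

universe u

open CategoryTheory CategoryTheory.Limits AlgebraicGeometry TopologicalSpace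
open Groth.Agent

namespace Groth.Agent.JacPts.Hurwitz

/-- The generic local ring is the residue field. -/
theorem bijective_residue_generic (Y : Scheme.{u}) [IsIntegral Y] (y η : Y) (h : y = η)
    (hη : η = genericPoint Y) :
    Function.Bijective ((Y.residue y).hom.comp (Y.presheaf.stalkSpecializes (specializes_of_eq h)).hom) := by
  subst h
  subst hη
  rw [RingHom.coe_comp]
  refine Function.Bijective.comp ⟨?_, Y.residue_surjective _⟩ ?_
  · letI : Field (Y.presheaf.stalk (genericPoint Y)) := inferInstanceAs (Field Y.functionField)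
    exact RingHom.injective _
  · rw [TopCat.Presheaf.stalkSpecializes_refl]
    exact Function.bijective_id

theorem denseRange_of_generic {X Y : Scheme.{u}} [IsIntegral X] [IsIntegral Y] (f : X ⟶ Y)
    (e : f (genericPoint X) = genericPoint Y) : DenseRange f.base := by
  rw [denseRange_iff_closure_range, Set.eq_univ_iff_forall]
  intro y
  have h1 : y ∈ closure ({genericPoint Y} : Set Y) := by
    rw [(genericPoint_spec Y).def]; trivial
  exact closure_mono (Set.singleton_subset_iff.2 (e ▸ Set.mem_range_self (genericPoint X))) h1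

theorem separable_residue {X Y : Scheme.{u}} [IsIntegral X] [IsIntegral Y] (f : X ⟶ Y)
    (e : f (genericPoint X) = genericPoint Y)
    (hsep : letI := ((Y.presheaf.stalkSpecializes (specializes_of_eq e) ≫ f.stalkMap (genericPoint X)).hom).toAlgebra
      Algebra.IsSeparable Y.functionField X.functionField) :
    letI := (f.residueFieldMap (genericPoint X)).hom.toAlgebra
    Algebra.IsSeparable (Y.residueField (f.base (genericPoint X))) (X.residueField (genericPoint X)) := by
  letI := ((Y.presheaf.stalkSpecializes (specializes_of_eq e) ≫ f.stalkMap (genericPoint X)).hom).toAlgebra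
  haveI := hsep
  let e₁ : Y.functionField ≃+* Y.residueField (f.base (genericPoint X)) :=
    RingEquiv.ofBijective
      ((Y.residue (f.base (genericPoint X))).hom.comp (Y.presheaf.stalkSpecializes (specializes_of_eq e)).hom)
      (bijective_residue_generic Y _ _ e rfl)
  let e₂ : X.functionField ≃+* X.residueField (genericPoint X) :=
    RingEquiv.ofBijective (X.residue (genericPoint X)).hom
      ⟨by
        letI : Field (X.presheaf.stalk (genericPoint X)) := inferInstanceAs (Field X.functionField)
        exact RingHom.injective _, X.residue_surjective _⟩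
  letI := (f.residueFieldMap (genericPoint X)).hom.toAlgebra
  refine Algebra.IsSeparable.of_equiv_equiv e₁ e₂ ?_
  refine RingHom.ext fun a => ?_
  exact ConcreteCategory.congr_hom (Scheme.residue_residueFieldMap f (genericPoint X)) _

theorem ne_zero_of_mono {X : Scheme.{u}} [IsIntegral X] {N L : X.Modules} (hN : PicF.IsInvertible N)
    (φ : N ⟶ L) [Mono φ] : φ ≠ 0 := by
  intro h
  haveI : Subsingleton (N.presheaf.stalk (genericPoint X)) := by
    have hid : 𝟙 N = 0 := by rw [← cancel_mono φ, h]; simp
    refine subsingleton_of_forall_eq 0 fun t => ?_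
    obtain ⟨W, hW, m, rfl⟩ := PullStalk.Sky.exists_germM_eq N (genericPoint X) t
    have hm : m = 0 := congr(Scheme.Modules.Hom.app $hid W m)
    rw [hm]
    exact map_zero (N.presheaf.germ W _ hW).hom
  letI : Field (X.presheaf.stalk (genericPoint X)) := inferInstanceAs (Field X.functionField)
  obtain ⟨eN⟩ := EulerChar.stalk_ofRank (ProjTwist.isFinLocFreeOfRank_one hN) (genericPoint X)
  exact one_ne_zero (congrFun (eN.injective (Subsingleton.elim (eN 1) (eN 0))) 0)

theorem hurwitz (k : Type u) [Field k] [IsAlgClosed k] (X : Scheme.{u}) [X.Over (Spec (CommRingCat.of k))]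
    [IsIntegral X] [IsProper (X ↘ (Spec (CommRingCat.of k)))] (hdimX : topologicalKrullDim X = 1)
    (hregX : ∀ x : X, IsRegularLocalRing (X.presheaf.stalk x))
    (Y : Scheme.{u}) [Y.Over (Spec (CommRingCat.of k))]
    [IsIntegral Y] [IsProper (Y ↘ (Spec (CommRingCat.of k)))] (hdimY : topologicalKrullDim Y = 1)
    (hregY : ∀ x : Y, IsRegularLocalRing (Y.presheaf.stalk x))
    (f : X ⟶ Y) [IsFinite f] (hf : f ≫ (Y ↘ (Spec (CommRingCat.of k))) = X ↘ (Spec (CommRingCat.of k)))
    (e : f (genericPoint X) = genericPoint Y)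
    (hsep : letI := ((Y.presheaf.stalkSpecializes (specializes_of_eq e) ≫ f.stalkMap (genericPoint X)).hom).toAlgebra
      Algebra.IsSeparable Y.functionField X.functionField) :
    2 * (Curv2.genus k X : ℤ) - 2 =
        (f.residueDegree (genericPoint X) : ℤ) * (2 * (Curv2.genus k Y : ℤ) - 2) +
          (Module.finrank k (Coh.HH X (Omega.sheaf f) 0) : ℤ) := by
  haveI := FFCurve.smooth_of_regular (X ↘ Spec (CommRingCat.of k)) hregX
  haveI := FFCurve.smooth_of_regular (Y ↘ Spec (CommRingCat.of k)) hregY
  haveI := FFCurve.regCurve_of_regular k hdimX hregX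
  haveI := FFCurve.regCurve_of_regular k hdimY hregY
  haveI : IsNoetherian X := EulerChar.isNoetherian k (X := X)
  have hKX := FFCurve.isFunctionField_of_isAlgClosed (X := X) k hdimX
  have hKY := FFCurve.isFunctionField_of_isAlgClosed (X := Y) k hdimY
  have hΩX := FFCurve.isInvertible_omega (X := X) k hdimX
  have hΩY := FFCurve.isInvertible_omega (X := Y) k hdimY
  have hdX : Curv2.deg k X (Omega.sheaf (X ↘ Spec (CommRingCat.of k))) 1 = 2 * (Curv2.genus k X : ℤ) - 2 := by
    rw [FFCurve.deg_eq k hdimX hKX hΩX, FF.deg_canonical hKX (FFCurve.isCanonical_omega (X := X) k hdimX),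
      FFCurve.genus_eq_genus k hdimX hKX]
  have hdY : Curv2.deg k Y (Omega.sheaf (Y ↘ Spec (CommRingCat.of k))) 1 = 2 * (Curv2.genus k Y : ℤ) - 2 := by
    rw [FFCurve.deg_eq k hdimY hKY hΩY, FF.deg_canonical hKY (FFCurve.isCanonical_omega (X := Y) k hdimY),
      FFCurve.genus_eq_genus k hdimY hKY]
  have hdP := EulerChar.deg_pullback f hf hdimX hdimY e (ProjTwist.isFinLocFreeOfRank_one hΩY)
  rw [hdY] at hdP
  -- the cotangent sequence
  have hY := Omega.DiagUniv.isUniversal_dOmega (f := Y ↘ Spec (CommRingCat.of k))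
  have hex : ∃ (Ω : X.Modules) (d : OmegaSh.Der (f ≫ (Y ↘ Spec (CommRingCat.of k))) Ω),
      OmegaSh.IsUniversal d ∧ Ω = Omega.sheaf (X ↘ Spec (CommRingCat.of k)) := by
    rw [hf]
    exact ⟨_, _, Omega.DiagUniv.isUniversal_dOmega _, rfl⟩
  obtain ⟨ΩX, dX, hX, rfl⟩ := hex
  have hXY := Omega.DiagUniv.isUniversal_dOmega (f := f)
  obtain ⟨c₁, hc₁, -⟩ := Omega.Basic.existsUnique_diffCompat (h := f) (b := 𝟙 (Spec (CommRingCat.of k)))
    (Category.comp_id (f ≫ (Y ↘ Spec (CommRingCat.of k)))) hY dX
  obtain ⟨c₂, hc₂, -⟩ := Omega.Basic.existsUnique_diffCompat (h := 𝟙 X) (b := (Y ↘ Spec (CommRingCat.of k)))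
    (Category.id_comp (f ≫ (Y ↘ Spec (CommRingCat.of k)))).symm hX (OmegaSh.dOmega f)
  obtain ⟨hcol⟩ := Omega.Transitivity.nonempty_isColimit hY hX hXY hc₁ hc₂
  haveI : Smooth (f ≫ (Y ↘ Spec (CommRingCat.of k))) := by rw [hf]; infer_instance
  haveI : Mono c₁ := Omega.SeparableMono.mono_of_separable (pX := f ≫ (Y ↘ Spec (CommRingCat.of k))) rfl
    (denseRange_of_generic f e) (separable_residue f e hsep) hY hX hc₁
  have hP := PicLoc.isInvertible_pullback f hΩY
  have hPc := VBLib.isCoh_of_ofRank (ProjTwist.isFinLocFreeOfRank_one hP)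
  have hXc := VBLib.isCoh_of_ofRank (ProjTwist.isFinLocFreeOfRank_one hΩX)
  let i := (cokernelIsCokernel c₁).coconePointUniqueUpToIso hcol
  have hC : Coh.IsCoh (cokernel c₁) := CohDev.isCoh_cokernel c₁ hPc.1 hXc
  have hd := EulerChar.dim_support_le_zero k hdimX hC
    (CohDev.not_mem_support_cokernel c₁
      (EulerChar.bijective_stalk_generic hP hΩX c₁ (ne_zero_of_mono hP c₁)).2)
  have hS : (ShortComplex.mk c₁ (cokernel.π c₁) (cokernel.condition c₁)).ShortExact :=
    { exact := ShortComplex.exact_of_g_is_cokernel _ (cokernelIsCokernel c₁)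
      mono_f := inferInstance
      epi_g := inferInstanceAs (Epi (cokernel.π c₁)) }
  have hadd := EulerChar.euler_add' k c₁ (cokernel.π c₁) (cokernel.condition c₁) hS hPc hXc hC
  rw [EulerChar.euler_eq_finrank_of_support k hC hd] at hadd
  have hh0 : Module.finrank k (Coh.HH X (cokernel c₁) 0) = Module.finrank k (Coh.HH X (Omega.sheaf f) 0) := by
    have key : ∀ {M N : X.Modules} (e : M ≅ N) (x : Coh.HH X M 0),
        CurveCoh.mapL k e.inv 0 (CurveCoh.mapL k e.hom 0 x) = x := fun {M N} e x => by
      show Sheaf.H.map _ 0 (Sheaf.H.map _ 0 x) = x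
      rw [← Sheaf.H.map_comp_apply, ← Functor.map_comp, e.hom_inv_id, CategoryTheory.Functor.map_id,
        Sheaf.H.map_id_apply]
    exact LinearEquiv.finrank_eq (LinearEquiv.ofBijective (CurveCoh.mapL k i.hom 0)
      ⟨fun x y hxy => (key i x).symm.trans ((congrArg _ hxy).trans (key i y)),
        fun y => ⟨_, key i.symm y⟩⟩)
  rw [hh0] at hadd
  unfold Curv2.deg at hdP hdX
  push_cast at hdP hdX
  linarith

end Groth.Agent.JacPts.Hurwitz
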