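import Groth.Agent.JacPts.Sym

/-!
# The point of the twisted canonical class
-/

set_option autoImplicit false
set_option linter.style.haveILetI false
set_option linter.unusedSectionVars false
set_option backward.isDefEq.respectTransparency false
set_option backward.isDefEq.respectTransparency.types false
set_option maxHeartbeats 800000

universe u

noncomputable section

open CategoryTheory CategoryTheory.Limits AlgebraicGeometry MonoidalCategory CartesianMonoidalCategory MonObj
open FunFld Groth.Agent.FFCurve Groth.Agent.JacPts.WSet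

namespace Groth.Agent.JacPts

variable {k : Type u} [Field k] [IsAlgClosed k] {X : Scheme.{u}} [X.Over (Spec (CommRingCat.of k))]
  [IsIntegral X] [IsProper (X ↘ Spec (CommRingCat.of k))] [RegCurve X] [Smooth (X ↘ Spec (CommRingCat.of k))]
  (hdim : topologicalKrullDim X = 1)
  {σ : Spec (CommRingCat.of k) ⟶ X} (hσ : σ ≫ (X ↘ Spec (CommRingCat.of k)) = 𝟙 _)
  {J : Over (Spec (CommRingCat.of k))} [GrpObj J]
  (ψ : (ModFun.PicDeg (X ↘ Spec (CommRingCat.of k)) 0).Hom ⊤ J)
include hdim

/-- The point `κ` is the point of a canonical divisor. -/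
theorem kappa_eq (g : ℕ) (hg : Curv2.genus k X = g) (hg1 : 1 ≤ g)
    {Kf : (PicF.XT (X ↘ Spec (CommRingCat.of k)) (𝟙_ (Over (Spec (CommRingCat.of k))))).Modules}
    (hKf : Nonempty (Kf ≅ (Scheme.Modules.pullback (pullback.fst (X ↘ Spec (CommRingCat.of k)) (𝟙_ (Over (Spec (CommRingCat.of k)))).hom)).obj
      (CohB1.tensorMod (Omega.sheaf (X ↘ Spec (CommRingCat.of k))) (CohB1.tensorPow (ClSub.idealMod σ.ker) (2 * g - 2)))))
    (hT : (⊤ : ObjectProperty (Over (Spec (CommRingCat.of k)))) (𝟙_ (Over (Spec (CommRingCat.of k)))))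
    (hok : (ModFun.PicDeg (X ↘ Spec (CommRingCat.of k)) 0).ok (𝟙_ (Over (Spec (CommRingCat.of k)))) Kf) :
    ψ.app _ Kf hT hok = cls hdim hσ ψ (divOf k hdim (isInvertible_omega (X := X) k hdim)) := by
  obtain ⟨e⟩ := hKf
  obtain ⟨a⟩ := iso_pullback_inv' (k := k) (CohB1.tensorMod (Omega.sheaf (X ↘ Spec (CommRingCat.of k)))
    (CohB1.tensorPow (ClSub.idealMod σ.ker) (2 * g - 2)))
  have hΩ := isInvertible_omega (X := X) k hdim
  have hI := isInvertible_ker k hdim hσ
  have hM := AmpleLib.isInvertible_tensorMod hΩ (AmpleLib.isInvertible_tensorPow hI (2 * g - 2))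
  have hdiv : DivEq k (divOf k hdim hM)
      (divOf k hdim hΩ + (2 * g - 2) • (-Finsupp.single (plc k hdim hσ) (1 : ℤ))) :=
    DivEq.trans' k hdim (divEq_tensor k hdim hΩ (AmpleLib.isInvertible_tensorPow hI (2 * g - 2)))
      (DivEq.add' k hdim (divEq_refl k hdim _) (divEq_tensorPow k hdim hI (divEq_ker k hdim hσ) _))
  have hdW : (divOf k hdim hΩ).deg = ((2 * g - 2 : ℕ) : ℤ) := by
    rw [FF.deg_canonical (isFF' k hdim) (isCanonical_omega k hdim), ← genus_eq k hdim hσ, hg]
    push_cast [Nat.cast_sub (show 2 ≤ 2 * g by omega)]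
    ring
  have hn : norm0 hdim hσ (divOf k hdim hΩ) =
      divOf k hdim hΩ + (2 * g - 2) • (-Finsupp.single (plc k hdim hσ) (1 : ℤ)) := by
    rw [norm0, hdW, natCast_zsmul, smul_neg, sub_eq_add_neg]
  have hd : Curv2.deg k X (CohB1.tensorMod (Omega.sheaf (X ↘ Spec (CommRingCat.of k)))
      (CohB1.tensorPow (ClSub.idealMod σ.ker) (2 * g - 2))) 1 = 0 := by
    rw [deg_eq k hdim (isFF' k hdim) hM, DivEq.deg_eq k hdim hdiv, ← hn, deg_norm0]
  rw [← hn] at hdiv
  rw [cls_eq_pt hdim hσ ψ hM hd hdiv]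
  exact pt_of_family hdim ψ hok hM hd ((Scheme.Modules.pullback _).mapIso e ≪≫ a)

end Groth.Agent.JacPts
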