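import Groth.Agent.JacPts.Sect
import Mathlib.LinearAlgebra.Matrix.Adjugate
import Mathlib.GroupTheory.CosetCover

/-!
# General pairs of effective divisors
For general `g`-tuples `D`, `D'` of rational points one has `ℓ(G + D - D') = 0` when `deg G = g - 2`.
-/

set_option autoImplicit false
set_option linter.style.haveILetI false
set_option linter.unusedSectionVars false
set_option backward.isDefEq.respectTransparency false
set_option backward.isDefEq.respectTransparency.types false
set_option maxHeartbeats 1600000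

universe u

noncomputable section

open CategoryTheory CategoryTheory.Limits AlgebraicGeometry TopologicalSpace FunFld WithZero
open Groth.Agent.FFCurve Groth.Agent.CurveCoh

namespace Groth.Agent.JacPts

section Matrices

variable {g p q r : ℕ} {k S S' : Type*} [Field k] [CommRing S] [CommRing S'] (cst : k →+* S)

/-- A kernel vector depending polynomially on the matrix. -/
def hvec (R : Matrix (Fin p) (Fin g) k) (c : Fin p → k) (MD : Matrix (Fin g) (Fin p) S) : Fin p → S :=
  (MD * R.map cst).det • (fun l => cst (c l)) -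
    (R.map cst).mulVec ((MD * R.map cst).adjugate.mulVec (MD.mulVec fun l => cst (c l)))

theorem mulVec_hvec (R : Matrix (Fin p) (Fin g) k) (c : Fin p → k) (MD : Matrix (Fin g) (Fin p) S) :
    MD.mulVec (hvec cst R c MD) = 0 := by
  rw [hvec, Matrix.mulVec_sub, Matrix.mulVec_smul, Matrix.mulVec_mulVec, Matrix.mulVec_mulVec,
    Matrix.mul_adjugate, Matrix.smul_mulVec, Matrix.one_mulVec, sub_self]

theorem map_hvec (φ : S →+* S') (R : Matrix (Fin p) (Fin g) k) (c : Fin p → k) (MD : Matrix (Fin g) (Fin p) S)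
    (l : Fin p) : φ (hvec cst R c MD l) = hvec (φ.comp cst) R c (MD.map φ) l := by
  have e : (MD * R.map cst).map φ = MD.map φ * R.map (φ.comp cst) := by
    rw [Matrix.map_mul, Matrix.map_map]
    rfl
  simp only [hvec, Pi.sub_apply, Pi.smul_apply, smul_eq_mul, map_sub, map_mul, RingHom.map_det,
    RingHom.mapMatrix_apply, e, RingHom.map_mulVec]
  congr 1
  have e2 : ((MD * R.map cst).adjugate).map φ = (MD.map φ * R.map (φ.comp cst)).adjugate := by
    rw [← e]; exact RingHom.map_adjugate φ _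
  rw [Matrix.map_map, show (φ ∘ (MD * R.map cst).adjugate.mulVec (MD.mulVec fun l => cst (c l))) =
    fun j => φ ((MD * R.map cst).adjugate.mulVec (MD.mulVec fun l => cst (c l)) j) from rfl]
  simp only [RingHom.map_mulVec, e2]
  congr 2
  funext j
  show (((MD.map φ * R.map (φ.comp cst)).adjugate).mulVec (φ ∘ (MD.mulVec fun l => cst (c l)))) j = _
  rw [show (φ ∘ (MD.mulVec fun l => cst (c l))) = fun i => φ ((MD.mulVec fun l => cst (c l)) i) from rfl]
  simp only [RingHom.map_mulVec]
  rfl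

/-- The linear system. -/
def phi (R : Matrix (Fin p) (Fin g) k) (c1 c2 : Fin p → k) (T : Fin q → Fin p → Fin r → k)
    (MD : Matrix (Fin g) (Fin p) S) (MD' : Matrix (Fin g) (Fin q) S) :
    Matrix (Fin r ⊕ (Fin g ⊕ Fin g)) (Fin q ⊕ Fin q) S :=
  Matrix.of fun a b => match a, b with
    | .inl ρ, .inl i => ∑ l, hvec cst R c2 MD l * cst (T i l ρ)
    | .inl ρ, .inr i => -∑ l, hvec cst R c1 MD l * cst (T i l ρ)
    | .inr (.inl j), .inl i => MD' j i
    | .inr (.inl _), .inr _ => 0
    | .inr (.inr _), .inl _ => 0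
    | .inr (.inr j), .inr i => MD' j i

theorem map_phi (φ : S →+* S') (R : Matrix (Fin p) (Fin g) k) (c1 c2 : Fin p → k) (T : Fin q → Fin p → Fin r → k)
    (MD : Matrix (Fin g) (Fin p) S) (MD' : Matrix (Fin g) (Fin q) S) :
    (phi cst R c1 c2 T MD MD').map φ = phi (φ.comp cst) R c1 c2 T (MD.map φ) (MD'.map φ) := by
  ext (ρ | j | j) (i | i) <;> simp [phi, map_hvec]

/-- A matrix of values of functionals applied to coordinates. -/
theorem mulVec_eval {ι ι' V : Type*} [Fintype ι] [AddCommGroup V] [Module k V] (a : Module.Basis ι k V)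
    (φ : ι' → (V →ₗ[k] k)) (v : ι → k) (i : ι') :
    (Matrix.of fun i l => φ i (a l)).mulVec v i = φ i (a.equivFun.symm v) := by
  rw [Module.Basis.equivFun_symm_apply, map_sum]
  exact Finset.sum_congr rfl fun l _ => by rw [map_smul, smul_eq_mul, mul_comm]; rfl

end Matrices

variable {X : Scheme.{u}} [IsIntegral X] (k : Type u) [Field k] [IsSepClosed k]
  [X.Over (Spec (CommRingCat.of k))] [IsProper (X ↘ Spec (CommRingCat.of k))]
  [Smooth (X ↘ Spec (CommRingCat.of k))] [RegCurve X] (hdim : topologicalKrullDim X = 1)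
include hdim

omit [IsSepClosed k] [Smooth (X ↘ Spec (CommRingCat.of k))] in
theorem mul_mem_L_add {D E : Divisor k X.functionField} {a b : X.functionField} (ha : a ∈ FunFld.L D)
    (hb : b ∈ FunFld.L E) : a * b ∈ FunFld.L (D + E) := fun P => by
  rw [map_mul, Finsupp.add_apply, exp_add]
  exact mul_le_mul' (ha P) (hb P)

/-- General pairs of `g`-tuples: `ℓ(G + D - D') = 0`. -/
theorem exists_open_diff (σ : Spec (CommRingCat.of k) ⟶ X) (hσ : σ ≫ (X ↘ Spec (CommRingCat.of k)) = 𝟙 _)
    (g : ℕ) (hg : genus k X.functionField = g) (hg1 : 1 ≤ g)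
    (G : Divisor k X.functionField) (hG : G.deg = (g : ℤ) - 2) {n : ℕ} (ι ι' : Fin g → Fin n) (hι : Function.Injective (Sum.elim ι ι')) :
    ∃ U : (SymProd.fibPow (X ↘ Spec (CommRingCat.of k)) n).Opens,
      (U : Set ↥(SymProd.fibPow (X ↘ Spec (CommRingCat.of k)) n)).Nonempty ∧
      ∀ (x : Spec (CommRingCat.of k) ⟶ SymProd.fibPow (X ↘ Spec (CommRingCat.of k)) n),
        (∀ p, x.base p ∈ U) →
        ∀ hq : ∀ i, (x ≫ WidePullback.π (fun (_ : Fin n) => (X ↘ Spec (CommRingCat.of k))) i) ≫
            (X ↘ Spec (CommRingCat.of k)) = 𝟙 _,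
        ell (G + ∑ i, Finsupp.single (plc k hdim (hq (ι i))) 1 - ∑ i, Finsupp.single (plc k hdim (hq (ι' i))) 1) = 0 := by
  classical
  have hK := isFunctionField k hdim hσ
  haveI : Infinite k := GrpScheme.SepPoint.infinite_of_isSepClosed k
  set A : Divisor k X.functionField := Finsupp.single (plc k hdim hσ) (3 * g : ℤ) with hA
  have hAdeg : A.deg = 3 * g := by rw [hA, FF.deg_single, deg_plc k hdim hσ]; simp
  haveI := FF.finiteDimensional_L hK A
  haveI := FF.finiteDimensional_L hK (G + A)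
  haveI := FF.finiteDimensional_L hK (G + A + A)
  let a := Module.finBasis k ↥(FunFld.L A)
  let b := Module.finBasis k ↥(FunFld.L (G + A))
  let c := Module.finBasis k ↥(FunFld.L (G + A + A))
  let μ : ↥(FunFld.L (G + A)) →ₗ[k] ↥(FunFld.L A) →ₗ[k] ↥(FunFld.L (G + A + A)) :=
    LinearMap.mk₂ k (fun x y => ⟨x.1 * y.1, mul_mem_L_add k hdim x.2 y.2⟩)
      (fun x x' y => Subtype.ext (add_mul x.1 x'.1 y.1))
      (fun t x y => Subtype.ext (smul_mul_assoc t x.1 y.1))
      (fun x y y' => Subtype.ext (mul_add x.1 y.1 y'.1))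
      (fun t x y => Subtype.ext (mul_smul_comm t x.1 y.1))
  let T := fun i l ρ => c.equivFun (μ (b i) (a l)) ρ
  have hμ : ∀ (u : _) (h : _) (ρ : _), c.equivFun (μ (b.equivFun.symm u) (a.equivFun.symm h)) ρ =
      ∑ i, (∑ l, h l * T i l ρ) * u i := by
    intro u h ρ
    simp only [Module.Basis.equivFun_symm_apply, map_sum, map_smul, LinearMap.sum_apply, LinearMap.smul_apply,
      Finset.sum_apply, Pi.smul_apply, smul_eq_mul, Finset.sum_mul, Finset.mul_sum, T]
    rw [Finset.sum_comm]
    refine Finset.sum_congr rfl fun i _ => Finset.sum_congr rfl fun l _ => by ring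
  -- the base point
  obtain ⟨σD, hσD, hinjD, hBD, hellD⟩ := exists_pts X k hdim hK A (A.support ∪ (G + A).support) g
  set E0 : Divisor k X.functionField := ∑ i, Finsupp.single (plc k hdim (hσD i)) (1 : ℤ) with hE0
  obtain ⟨σD', hσD', hinjD', hBD', hellD'⟩ := exists_pts X k hdim hK (G + E0) (A.support ∪ (G + A).support) g
  set E0' : Divisor k X.functionField := ∑ i, Finsupp.single (plc k hdim (hσD' i)) (1 : ℤ) with hE0'
  set B : Finset (Place k X.functionField) := A.support ∪ (G + A).support with hBdef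
  have hBA : A.support ⊆ B := Finset.subset_union_left
  have hBGA : (G + A).support ⊆ B := Finset.subset_union_right
  have hAl : (ell A : ℤ) = 2 * g + 1 := by
    rw [FF.ell_eq_of_deg_ge hK (by omega), hAdeg, hg]; ring
  have hE0deg : E0.deg = g := by
    rw [hE0, deg_sum_plc k hdim Finset.univ _ hσD]; simp
  have hAEl : (ell (A - E0) : ℤ) = g + 1 := by
    rw [FF.ell_eq_of_deg_ge hK (by rw [FF.deg_sub]; omega), FF.deg_sub, hAdeg, hE0deg, hg]; ring
  have hGE : ell (G + E0) ≤ g := by
    obtain ⟨W, hW⟩ := FF.exists_canonical hK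
    have h1 := FF.riemann_roch hK hW (G + E0)
    have h2 : ell (W - (G + E0)) ≤ 1 := by
      rcases Nat.eq_zero_or_pos (ell (W - (G + E0))) with h | h
      · omega
      have hWl := FF.ell_canonical hK hW
      have hd0 : (W - (G + E0)).deg = 0 := by
        have h3 := FF.riemann_roch hK hW W
        rw [sub_self, FF.ell_zero hK] at h3
        rw [FF.deg_sub, FF.deg_add, hG, hE0deg]
        omega
      obtain ⟨z, hz, hzD⟩ := FF.Any.exists_nonneg_equiv hK.1 h
      have hle := (FF.ell_sub_single_le hK (W - (G + E0)) (plc k hdim hσ)).2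
      rw [deg_plc k hdim hσ, FF.Any.ell_eq_zero_of_deg_neg hK.1
        (D := W - (G + E0) - Finsupp.single (plc k hdim hσ) 1)
        (by rw [FF.deg_sub, FF.deg_single, deg_plc k hdim hσ, hd0]; norm_num)] at hle
      omega
    rw [FF.deg_add, hG, hE0deg] at h1
    omega
  have hN0 : ell (G + E0 - E0') = 0 := by
    have : ell (G + E0) - g = 0 := Nat.sub_eq_zero_of_le hGE
    omega
  -- evaluation at the base point
  let M0 : Matrix (Fin g) (Fin (Module.finrank k ↥(FunFld.L A))) k :=
    Matrix.of fun i l => evalL k hdim hBA (hσD i) (hBD i) (a l)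
  let M0' : Matrix (Fin g) (Fin (Module.finrank k ↥(FunFld.L (G + A)))) k :=
    Matrix.of fun i l => evalL k hdim hBGA (hσD' i) (hBD' i) (b l)
  have hM0mem : ∀ v, M0.mulVec v = 0 ↔ (a.equivFun.symm v).1 ∈ FunFld.L (A - E0) := by
    intro v
    have e : ∀ i, M0.mulVec v i = evalL k hdim hBA (hσD i) (hBD i) (a.equivFun.symm v) :=
      mulVec_eval a (fun i => evalL k hdim hBA (hσD i) (hBD i)) v
    constructor
    · intro h
      exact mem_of_evalL_eq_zero k hdim hBA σD hσD hBD hinjD _ fun i => by rw [← e, h]; rfl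
    · intro h
      funext i
      rw [e]
      refine evalL_eq_zero_of_mem k hdim hBA (hσD i) (hBD i) _ h ?_
      rw [hE0, Finsupp.finsetSum_apply]
      refine le_trans (le_of_eq (Finsupp.single_eq_same).symm) (Finset.single_le_sum (f := fun i' =>
        (Finsupp.single (plc k hdim (hσD i')) (1 : ℤ)) (plc k hdim (hσD i))) (fun i' _ => ?_) (Finset.mem_univ i))
      exact Finsupp.single_nonneg.2 zero_le_one _
  have hEnn : 0 ≤ E0 := Finset.sum_nonneg fun i _ => Finsupp.single_nonneg.2 zero_le_one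
  have hsurj : LinearMap.range M0.mulVecLin = ⊤ := by
    apply Submodule.eq_top_of_finrank_eq
    let e : ↥(LinearMap.ker M0.mulVecLin) →ₗ[k] ↥(FunFld.L (A - E0)) :=
      LinearMap.codRestrict _ ((FunFld.L A).subtype.comp (a.equivFun.symm.toLinearMap.comp (LinearMap.ker M0.mulVecLin).subtype))
        fun v => (hM0mem v.1).1 (LinearMap.mem_ker.1 v.2)
    haveI := FF.finiteDimensional_L hK (A - E0)
    have hker : Module.finrank k ↥(LinearMap.ker M0.mulVecLin) ≤ ell (A - E0) :=
      LinearMap.finrank_le_finrank_of_injective (f := e) fun v w h => by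
        have := congrArg (fun t : ↥(FunFld.L (A - E0)) => t.1) h
        exact Subtype.ext (a.equivFun.symm.injective (Subtype.ext this))
    have h1 := LinearMap.finrank_range_add_finrank_ker M0.mulVecLin
    have h2 := Submodule.finrank_le (LinearMap.range M0.mulVecLin)
    rw [Module.finrank_fin_fun] at h1 h2 ⊢
    have : ell A = Module.finrank k ↥(FunFld.L A) := rfl
    omega
  obtain ⟨Rl, hRl⟩ := M0.mulVecLin.exists_rightInverse_of_surjective hsurj
  let R := LinearMap.toMatrix' Rl
  have hR : M0 * R = 1 := by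
    have := congrArg LinearMap.toMatrix' hRl
    rwa [LinearMap.toMatrix'_comp, LinearMap.toMatrix'_id, ← Matrix.toLin'_apply', LinearMap.toMatrix'_toLin'] at this
  -- a pencil in `L(A - E0)` with residual divisor `E0`
  haveI := FF.finiteDimensional_L hK (A - E0)
  obtain ⟨h1, hh1, hh1ne⟩ := (FunFld.L (A - E0)).exists_mem_ne_zero_of_ne_bot fun e => by
    simp only [ell] at hAEl
    rw [e, finrank_bot] at hAEl
    omega
  let Q : Finset (Place k X.functionField) := (A - E0).support ∪ (FF.finite_support_ord hK.1 h1).toFinset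
  let bad : Finset (Submodule k ↥(FunFld.L (A - E0))) := insert ⊥
    (Q.image fun P => (FunFld.L (A - E0 - Finsupp.single P 1)).comap (FunFld.L (A - E0)).subtype)
  have hbad : ⊤ ∉ bad := by
    simp only [bad, Finset.mem_insert, Finset.mem_image, not_or, not_exists, not_and]
    refine ⟨fun e => ?_, fun P hP e => ?_⟩
    · have hm : (⟨h1, hh1⟩ : ↥(FunFld.L (A - E0))) ∈ (⊥ : Submodule k ↥(FunFld.L (A - E0))) := by
        rw [← e]; exact Submodule.mem_top
      exact hh1ne (congrArg Subtype.val ((Submodule.mem_bot k).1 hm))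
    · rcases (Nat.eq_zero_or_pos P.deg) with hd | hd
      · exact absurd hd (FF.deg_pos hK.1 P).ne'
      have hlt : ell (A - E0 - Finsupp.single P 1) < ell (A - E0) := by
        rcases le_or_gt (2 * (g : ℤ) - 1) (A - E0 - Finsupp.single P 1).deg with h | h
        · have := FF.ell_eq_of_deg_ge hK (D := A - E0 - Finsupp.single P 1) (by rw [hg]; exact h)
          rw [FF.deg_sub, FF.deg_sub, hAdeg, hE0deg, FF.deg_single, hg] at this
          omega
        · obtain ⟨W, hW⟩ := FF.exists_canonical hK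
          have hr := FF.riemann_roch hK hW (A - E0 - Finsupp.single P 1)
          have hWl := FF.ell_canonical hK hW
          have hm : ell (W - (A - E0 - Finsupp.single P 1)) ≤ ell W + P.deg := by
            have h0 := FF.ell_eq_of_deg_ge hK (D := A - E0) (by rw [FF.deg_sub, hAdeg, hE0deg, hg]; omega)
            have hr0 := FF.riemann_roch hK hW (A - E0)
            have hs := (FF.ell_sub_single_le hK (W - (A - E0 - Finsupp.single P 1)) P).2
            rw [show W - (A - E0 - Finsupp.single P 1) - Finsupp.single P 1 = W - (A - E0) by abel] at hs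
            omega
          rw [FF.deg_sub, FF.deg_sub, hAdeg, hE0deg, FF.deg_single] at h
          have hsmall : ell (A - E0 - Finsupp.single P 1) ≤ g := by
            rcases Nat.eq_zero_or_pos (ell (A - E0 - Finsupp.single P 1)) with h0 | h0
            · omega
            by_contra hbig
            have := FFCurve.ell_eq_of_genus_lt hK (D := A - E0 - Finsupp.single P 1) (by omega)
            rw [FF.deg_sub, FF.deg_sub, hAdeg, hE0deg, FF.deg_single] at this
            omega
          omega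
      obtain ⟨z, hz, hzP⟩ := (FF.ell_lt_iff_exists hK (A - E0) P).1 hlt
      have hz' : z ∈ FunFld.L (A - E0 - Finsupp.single P 1) := by
        have : (⟨z, hz⟩ : ↥(FunFld.L (A - E0))) ∈ (FunFld.L (A - E0 - Finsupp.single P 1)).comap (FunFld.L (A - E0)).subtype :=
          e ▸ Submodule.mem_top
        exact this
      have := ((FF.mem_L_sub_single zero_le_one).1 hz').2
      rw [hzP, exp_le_exp] at this
      omega
  obtain ⟨h2, hh2⟩ := Set.nonempty_compl.2 (Subspace.biUnion_ne_univ_of_top_notMem hbad)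
  simp only [Set.mem_compl_iff, Set.mem_iUnion, SetLike.mem_coe, not_exists, bad, Finset.mem_insert,
    Finset.mem_image] at hh2
  have hh2ne : h2.1 ≠ 0 := fun e => hh2 ⊥ (Or.inl rfl) ((Submodule.mem_bot k).2 (Subtype.ext e))
  have hexact : ∀ P, P.1 h1 = exp ((A - E0) P) ∨ P.1 h2.1 = exp ((A - E0) P) := by
    intro P
    by_contra hne
    rw [not_or] at hne
    by_cases hP : P ∈ Q
    · refine hh2 _ (Or.inr ⟨P, hP, rfl⟩) ?_
      show h2.1 ∈ FunFld.L (A - E0 - Finsupp.single P 1)
      exact (FF.mem_L_sub_single zero_le_one).2 ⟨h2.2, (FF.lt_exp_iff _ _).1 (lt_of_le_of_ne (h2.2 P) hne.2)⟩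
    · simp only [Q, Finset.mem_union, Finsupp.mem_support_iff, Set.Finite.mem_toFinset, Function.mem_support,
        not_or, not_not] at hP
      exact hne.1 (by rw [hP.1, exp_zero, FF.val_eq_one_iff _ hh1ne]; exact hP.2)
  have hEA : FunFld.L (A - E0) ≤ FunFld.L A := FF.L_mono (sub_le_self _ hEnn)
  let c1 := a.equivFun ⟨h1, hEA hh1⟩
  let c2 := a.equivFun ⟨h2.1, hEA h2.2⟩
  have hc1 : M0.mulVec c1 = 0 := (hM0mem c1).2 (by rw [show a.equivFun.symm c1 = ⟨h1, hEA hh1⟩ from a.equivFun.symm_apply_apply _]; exact hh1)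
  have hc2 : M0.mulVec c2 = 0 := (hM0mem c2).2 (by rw [show a.equivFun.symm c2 = ⟨h2.1, hEA h2.2⟩ from a.equivFun.symm_apply_apply _]; exact h2.2)
  have hv1 : hvec (RingHom.id k) R c1 M0 = c1 := by
    simp [hvec, hR, hc1]
  have hv2 : hvec (RingHom.id k) R c2 M0 = c2 := by
    simp [hvec, hR, hc2]
  let Φ0 := phi (RingHom.id k) R c1 c2 T M0 M0'
  have hrow : ∀ (MD : Matrix (Fin g) _ k) (MD' : Matrix (Fin g) _ k) (u1 u2 : Fin _ → k) ρ,
      (phi (RingHom.id k) R c1 c2 T MD MD').mulVec (Sum.elim u1 u2) (Sum.inl ρ) =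
      c.equivFun (μ (b.equivFun.symm u1) (a.equivFun.symm (hvec (RingHom.id k) R c2 MD))) ρ -
      c.equivFun (μ (b.equivFun.symm u2) (a.equivFun.symm (hvec (RingHom.id k) R c1 MD))) ρ := by
    intro MD MD' u1 u2 ρ
    rw [hμ, hμ]
    simp [Matrix.mulVec, dotProduct, Fintype.sum_sum_type, phi, sub_eq_add_neg]
  have hrow1 : ∀ (MD : Matrix (Fin g) _ k) (MD' : Matrix (Fin g) _ k) (u1 u2 : Fin _ → k) j,
      (phi (RingHom.id k) R c1 c2 T MD MD').mulVec (Sum.elim u1 u2) (Sum.inr (Sum.inl j)) = MD'.mulVec u1 j := by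
    intro MD MD' u1 u2 j
    simp [Matrix.mulVec, dotProduct, Fintype.sum_sum_type, phi]
  have hrow2 : ∀ (MD : Matrix (Fin g) _ k) (MD' : Matrix (Fin g) _ k) (u1 u2 : Fin _ → k) j,
      (phi (RingHom.id k) R c1 c2 T MD MD').mulVec (Sum.elim u1 u2) (Sum.inr (Sum.inr j)) = MD'.mulVec u2 j := by
    intro MD MD' u1 u2 j
    simp [Matrix.mulVec, dotProduct, Fintype.sum_sum_type, phi]
  have hinj0 : LinearMap.ker Φ0.mulVecLin = ⊥ := by
    refine LinearMap.ker_eq_bot'.2 fun v hv => ?_
    obtain ⟨u1, u2, rfl⟩ : ∃ u1 u2, v = Sum.elim u1 u2 := ⟨v ∘ Sum.inl, v ∘ Sum.inr, (Sum.elim_comp_inl_inr v).symm⟩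
    set U1 := b.equivFun.symm u1 with hU1
    set U2 := b.equivFun.symm u2 with hU2
    have hcross : U1.1 * h2.1 = U2.1 * h1 := by
      have h : c.equivFun (μ U1 (a.equivFun.symm c2)) = c.equivFun (μ U2 (a.equivFun.symm c1)) := by
        funext ρ
        have := (hrow M0 M0' u1 u2 ρ).symm.trans (congrFun hv (Sum.inl ρ))
        rw [hv1, hv2] at this
        exact sub_eq_zero.1 this
      have := congrArg Subtype.val (c.equivFun.injective h)
      simpa [μ, c1, c2] using this
    have hmem : ∀ u : Fin _ → k, M0'.mulVec u = 0 → (b.equivFun.symm u).1 ∈ FunFld.L (G + A - E0') := fun u hu =>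
      mem_of_evalL_eq_zero k hdim hBGA σD' hσD' hBD' hinjD' _ fun i => by
        have e : M0'.mulVec u i = evalL k hdim hBGA (hσD' i) (hBD' i) (b.equivFun.symm u) :=
          mulVec_eval b (fun i => evalL k hdim hBGA (hσD' i) (hBD' i)) u i
        rw [← e, hu]; rfl
    have hm1 := hmem u1 (funext fun j => (hrow1 M0 M0' u1 u2 j).symm.trans (congrFun hv _))
    have hm2 := hmem u2 (funext fun j => (hrow2 M0 M0' u1 u2 j).symm.trans (congrFun hv _))
    rw [← hU1] at hm1
    rw [← hU2] at hm2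
    set φ := U1.1 / h1 with hφ
    have hφ2 : φ = U2.1 / h2.1 := by
      rw [hφ, div_eq_div_iff hh1ne hh2ne]; exact hcross
    have hφmem : φ ∈ FunFld.L (G + E0 - E0') := by
      intro P
      have key : ∀ (U h : X.functionField), U ∈ FunFld.L (G + A - E0') → h ≠ 0 → P.1 h = exp ((A - E0) P) →
          P.1 (U / h) ≤ exp ((G + E0 - E0') P) := by
        intro U h hU hne he
        rw [map_div₀, div_le_iff₀ (zero_lt_iff.2 ((Valuation.ne_zero_iff _).2 hne)), he, ← exp_add]
        refine (hU P).trans (le_of_eq (congrArg exp ?_))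
        simp only [Finsupp.add_apply, Finsupp.sub_apply]
        ring
      rcases hexact P with h | h
      · exact key _ _ hm1 hh1ne h
      · rw [hφ2]; exact key _ _ hm2 hh2ne h
    haveI := FF.finiteDimensional_L hK (G + E0 - E0')
    have hφ0 : φ = 0 := by
      rw [Submodule.finrank_eq_zero.1 hN0] at hφmem
      exact (Submodule.mem_bot k).1 hφmem
    have hu1 : u1 = 0 := b.equivFun.symm.injective (by
      rw [map_zero]; exact Subtype.ext ((div_eq_zero_iff.1 hφ0).resolve_right hh1ne))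
    have hu2 : u2 = 0 := b.equivFun.symm.injective (by
      rw [map_zero]; rw [hφ2] at hφ0; exact Subtype.ext ((div_eq_zero_iff.1 hφ0).resolve_right hh2ne))
    subst hu1 hu2
    ext (i | i) <;> rfl
  obtain ⟨Ll, hLl⟩ := Φ0.mulVecLin.exists_leftInverse_of_injective hinj0
  let L0 := LinearMap.toMatrix' Ll
  have hL0 : L0 * Φ0 = 1 := by
    have := congrArg LinearMap.toMatrix' hLl
    rwa [LinearMap.toMatrix'_comp, LinearMap.toMatrix'_id, ← Matrix.toLin'_apply', LinearMap.toMatrix'_toLin'] at this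
  obtain ⟨l₁, hl₁⟩ : ∃ l, c1 l ≠ 0 := Function.ne_iff.1 fun e =>
    hh1ne (congrArg Subtype.val ((map_eq_zero_iff _ a.equivFun.injective).1 e))
  -- the open set
  let V := avoidOpen k hdim B
  let P := SymProd.fibPow (X ↘ Spec (CommRingCat.of k)) n
  let pr : Fin n → (P ⟶ X) := fun i => WidePullback.π (fun (_ : Fin n) => (X ↘ Spec (CommRingCat.of k))) i
  let U0 : P.Opens := ⟨⋂ i, (pr i ⁻¹ᵁ V : P.Opens), isOpen_iInter_of_finite fun i => (pr i ⁻¹ᵁ V).2⟩
  have hU0 : ∀ i, U0 ≤ pr i ⁻¹ᵁ V := fun i w hw => Set.mem_iInter.1 hw i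
  let i₀ : Fin g := ⟨0, hg1⟩
  let cst : k →+* Γ(P, U0) := ((pr (ι i₀)).appLE V U0 (hU0 _)).hom.comp (kMap k V)
  let MD : Matrix (Fin g) (Fin (Module.finrank k ↥(FunFld.L A))) Γ(P, U0) :=
    Matrix.of fun i l => (pr (ι i)).appLE V U0 (hU0 _) (secOf k hdim hBA (a l))
  let MD' : Matrix (Fin g) (Fin (Module.finrank k ↥(FunFld.L (G + A)))) Γ(P, U0) :=
    Matrix.of fun i l => (pr (ι' i)).appLE V U0 (hU0 _) (secOf k hdim hBGA (b l))
  let d : Γ(P, U0) := (MD * R.map cst).det * (L0.map cst * phi cst R c1 c2 T MD MD').det *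
    hvec cst R c1 MD l₁
  have hev : ∀ (x : Spec (CommRingCat.of k) ⟶ P) (h0 : x.base (IsLocalRing.closedPoint k) ∈ U0) (i : Fin n) (s : Γ(X, V)),
      ev x U0 (top_le x U0 h0) ((pr i).appLE V U0 (hU0 i) s) =
        ev (x ≫ pr i) V (top_le _ _ (hU0 i h0)) s := by
    intro x h0 i s
    show (Scheme.ΓSpecIso (CommRingCat.of k)).hom (((pr i).appLE V U0 (hU0 _) ≫ x.appLE U0 ⊤ _) s) = _
    rw [Scheme.Hom.appLE_comp_appLE]
    rfl
  have hd : ∀ (x : Spec (CommRingCat.of k) ⟶ P) (h0 : x.base (IsLocalRing.closedPoint k) ∈ U0)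
      (hx : (x ≫ pr (ι i₀)) ≫ (X ↘ Spec (CommRingCat.of k)) = 𝟙 _) N N',
      N = (Matrix.of fun i l => ev (x ≫ pr (ι i)) V (top_le _ _ (hU0 _ h0)) (secOf k hdim hBA (a l))) →
      N' = (Matrix.of fun i l => ev (x ≫ pr (ι' i)) V (top_le _ _ (hU0 _ h0)) (secOf k hdim hBGA (b l))) →
      ev x U0 (top_le x U0 h0) d =
        (N * R).det * (L0 * phi (RingHom.id k) R c1 c2 T N N').det * hvec (RingHom.id k) R c1 N l₁ := by
    intro x h0 hx N N' hN hN'
    set φ := ev x U0 (top_le x U0 h0) with hφ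
    have hc : φ.comp cst = RingHom.id k := RingHom.ext fun t => by
      show φ ((pr (ι i₀)).appLE V U0 (hU0 _) (kMap k V t)) = t
      rw [hφ, hev x h0, ev_kMap k hdim hx]
    have hMD : MD.map φ = N := by rw [hN]; ext i l; exact hev x h0 _ _
    have hMD' : MD'.map φ = N' := by rw [hN']; ext i l; exact hev x h0 _ _
    simp only [d, map_mul, RingHom.map_det, map_hvec, RingHom.mapMatrix_apply, Matrix.map_mul, Matrix.map_map,
      map_phi, hMD, hMD', hc]
    rw [show (φ ∘ cst : k → k) = id from funext fun t => RingHom.congr_fun hc t, Matrix.map_id, Matrix.map_id]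
  refine ⟨P.basicOpen d, ?_, ?_⟩
  · let pt : Fin n → {p : Spec (CommRingCat.of k) ⟶ X //
        p ≫ (X ↘ Spec (CommRingCat.of k)) = 𝟙 _ ∧ p.base (IsLocalRing.closedPoint k) ∈ V} :=
      Function.extend (Sum.elim ι ι') (Sum.elim (fun i => ⟨σD i, hσD i, pt_mem k hdim (hσD i) (hBD i)⟩)
        (fun i => ⟨σD' i, hσD' i, pt_mem k hdim (hσD' i) (hBD' i)⟩))
        (fun _ => ⟨σD ⟨0, hg1⟩, hσD _, pt_mem k hdim (hσD _) (hBD _)⟩)
    let x : Spec (CommRingCat.of k) ⟶ P := WidePullback.lift (𝟙 _) (fun i => (pt i).1) (fun i => (pt i).2.1)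
    have hxp : ∀ i, x ≫ pr i = (pt i).1 := fun i => WidePullback.lift_π _ _ _ _ i
    have hl : ∀ i, x ≫ pr (ι i) = σD i := fun i => by
      rw [hxp]; exact congrArg Subtype.val (hι.extend_apply _ _ (Sum.inl i))
    have hr' : ∀ i, x ≫ pr (ι' i) = σD' i := fun i => by
      rw [hxp]; exact congrArg Subtype.val (hι.extend_apply _ _ (Sum.inr i))
    have h0 : x.base (IsLocalRing.closedPoint k) ∈ U0 := Set.mem_iInter.2 fun i => by
      show (x ≫ pr i).base (IsLocalRing.closedPoint k) ∈ V
      rw [hxp]; exact (pt i).2.2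
    refine ⟨x.base (IsLocalRing.closedPoint k), ?_⟩
    by_contra hnot
    have h1 := (ev_eq_zero_iff x U0 (top_le x U0 h0) d).2 hnot
    rw [hd x h0 (by rw [hxp]; exact (pt _).2.1) M0 M0'
      (by ext i l; simp only [Matrix.of_apply, M0, hl]; rfl)
      (by ext i l; simp only [Matrix.of_apply, M0', hr']; rfl)] at h1
    rw [hR, hL0, Matrix.det_one, Matrix.det_one, hv1, one_mul, one_mul] at h1
    exact hl₁ h1
  · intro x hxU hq
    have h0 : x.base (IsLocalRing.closedPoint k) ∈ U0 := P.basicOpen_le _ (hxU _)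
    have hn : ∀ i, plc k hdim (hq i) ∉ B := fun i =>
      (mem_avoidOpen_iff k hdim B (cpt k (hq i))).1 (hU0 i h0)
    set N : Matrix (Fin g) (Fin (Module.finrank k ↥(FunFld.L A))) k :=
      Matrix.of fun i l => evalL k hdim hBA (hq (ι i)) (hn _) (a l) with hN
    set N' : Matrix (Fin g) (Fin (Module.finrank k ↥(FunFld.L (G + A)))) k :=
      Matrix.of fun i l => evalL k hdim hBGA (hq (ι' i)) (hn _) (b l) with hN'
    have hne : ev x U0 (top_le x U0 h0) d ≠ 0 := by
      rw [Ne, ev_eq_zero_iff, not_not]; exact hxU _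
    rw [hd x h0 (hq (ι i₀)) N N' rfl rfl, mul_ne_zero_iff, mul_ne_zero_iff] at hne
    obtain ⟨⟨hdet1, hdet2⟩, hne1⟩ := hne
    have hinj : Function.Injective fun i => plc k hdim (hq (ι i)) := by
      intro i j hij
      by_contra hne
      refine hdet1 (Matrix.det_zero_of_row_eq hne ?_)
      funext t
      show (N i) ⬝ᵥ (fun l => R l t) = (N j) ⬝ᵥ (fun l => R l t)
      congr 1
      funext l
      exact evalL_eq_of_plc_eq k hdim hBA (hq (ι i)) (hq (ι j)) hij (hn _) (hn _) _
    set E : Divisor k X.functionField := ∑ i, Finsupp.single (plc k hdim (hq (ι i))) (1 : ℤ) with hE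
    set E' : Divisor k X.functionField := ∑ i, Finsupp.single (plc k hdim (hq (ι' i))) (1 : ℤ) with hE'
    by_contra hne0
    haveI := FF.finiteDimensional_L hK (G + E - E')
    obtain ⟨f, hf, hf0⟩ := (FunFld.L (G + E - E')).exists_mem_ne_zero_of_ne_bot fun e => by
      refine hne0 ?_
      show Module.finrank k ↥(FunFld.L (G + E - E')) = 0
      rw [e, finrank_bot]
    have hker : ∀ cc, (a.equivFun.symm (hvec (RingHom.id k) R cc N)).1 ∈ FunFld.L (A - E) := fun cc =>
      mem_of_evalL_eq_zero k hdim hBA _ (fun i => hq (ι i)) (fun i => hn _) hinj _ fun i => by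
        have h := congrFun (mulVec_hvec (RingHom.id k) R cc N) i
        exact (mulVec_eval a (fun i => evalL k hdim hBA (hq (ι i)) (hn _)) _ i).symm.trans h
    set H1 := a.equivFun.symm (hvec (RingHom.id k) R c1 N) with hH1
    set H2 := a.equivFun.symm (hvec (RingHom.id k) R c2 N) with hH2
    have hE'nn : 0 ≤ E' := Finset.sum_nonneg fun i _ => Finsupp.single_nonneg.2 zero_le_one
    have hfm : ∀ H : ↥(FunFld.L A), H.1 ∈ FunFld.L (A - E) → f * H.1 ∈ FunFld.L (G + A - E') := fun H hH => by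
      have := mul_mem_L_add k hdim hf hH
      rwa [show G + E - E' + (A - E) = G + A - E' by abel] at this
    let U1 : ↥(FunFld.L (G + A)) := ⟨f * H1.1, FF.L_mono (sub_le_self _ hE'nn) (hfm _ (hker c1))⟩
    let U2 : ↥(FunFld.L (G + A)) := ⟨f * H2.1, FF.L_mono (sub_le_self _ hE'nn) (hfm _ (hker c2))⟩
    have hvan : ∀ U : ↥(FunFld.L (G + A)), U.1 ∈ FunFld.L (G + A - E') → N'.mulVec (b.equivFun U) = 0 := by
      intro U hU
      funext i
      have e : N'.mulVec (b.equivFun U) i = evalL k hdim hBGA (hq (ι' i)) (hn _) U := by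
        refine (mulVec_eval b (fun i => evalL k hdim hBGA (hq (ι' i)) (hn _)) (b.equivFun U) i).trans ?_
        rw [LinearEquiv.symm_apply_apply]
      rw [e]
      refine evalL_eq_zero_of_mem k hdim hBGA (hq (ι' i)) (hn _) U hU ?_
      rw [hE', Finsupp.finsetSum_apply]
      refine le_trans (le_of_eq (Finsupp.single_eq_same).symm) (Finset.single_le_sum (f := fun i' =>
        (Finsupp.single (plc k hdim (hq (ι' i'))) (1 : ℤ)) (plc k hdim (hq (ι' i)))) (fun i' _ => ?_) (Finset.mem_univ i))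
      exact Finsupp.single_nonneg.2 zero_le_one _
    have hv : (phi (RingHom.id k) R c1 c2 T N N').mulVec (Sum.elim (b.equivFun U1) (b.equivFun U2)) = 0 := by
      ext (ρ | j | j)
      · rw [hrow, LinearEquiv.symm_apply_apply, LinearEquiv.symm_apply_apply, ← hH1, ← hH2,
          show μ U1 H2 = μ U2 H1 from Subtype.ext (by show f * H1.1 * H2.1 = f * H2.1 * H1.1; ring), sub_self]
        rfl
      · rw [hrow1, hvan U1 (hfm _ (hker c1))]; rfl
      · rw [hrow2, hvan U2 (hfm _ (hker c2))]; rfl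
    have hz := Matrix.eq_zero_of_mulVec_eq_zero hdet2 (by rw [← Matrix.mulVec_mulVec, hv, Matrix.mulVec_zero])
    have hU1 : U1 = 0 := b.equivFun.injective (by
      rw [map_zero]; funext i; exact congrFun hz (Sum.inl i))
    have hfH : f * H1.1 = 0 := congrArg Subtype.val hU1
    have hH10 : H1 = 0 := Subtype.ext ((mul_eq_zero.1 hfH).resolve_left hf0)
    rw [hH1, LinearEquiv.map_eq_zero_iff] at hH10
    exact hne1 (congrFun hH10 l₁)

end Groth.Agent.JacPts
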