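import Groth.Agent.JacPts.RR
import Groth.Agent.FFCurve.GlobGen
import Groth.Agent.FFCurve.Canonical

/-!
# The base point free pencil trick for divisors
-/

set_option autoImplicit false
set_option linter.style.haveILetI false
set_option linter.unusedSectionVars false
set_option backward.isDefEq.respectTransparency false
set_option backward.isDefEq.respectTransparency.types false

universe u

noncomputable section

open CategoryTheory AlgebraicGeometry TopologicalSpace FunFld WithZero
open Groth.Agent.FFCurve

namespace Groth.Agent.JacPts.Pencil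

variable {X : Scheme.{u}} [IsIntegral X] (k : Type u) [Field k] [IsAlgClosed k]
  [X.Over (Spec (CommRingCat.of k))] [IsProper (X ↘ Spec (CommRingCat.of k))]
  [RegCurve X] (hdim : topologicalKrullDim X = 1)
include hdim

/-- Base point freeness in divisor language. -/
theorem ell_sub_lt_of_globGen {M : X.Modules} (hM : PicF.IsInvertible M) (hg : Curv2.IsGloballyGenerated M)
    (P : Place k X.functionField) :
    ell (divOf k hdim hM - Finsupp.single P 1) < ell (divOf k hdim hM) := by
  obtain ⟨z, hz, hz'⟩ := (isGloballyGenerated_iff k hdim hM).1 hg ((placeEquiv k hdim).symm P)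
  rw [show toPlace k hdim ((placeEquiv k hdim).symm P) = P from (placeEquiv k hdim).apply_symm_apply P] at hz'
  exact (FF.ell_lt_iff_exists (isFF' k hdim) _ P).2 ⟨z, hz, hz'⟩

/-- The base point free pencil trick. -/
theorem two_mul_ell_le {D : Divisor k X.functionField} (h2 : ell D = 2)
    (hbpf : ∀ P, ell (D - Finsupp.single P 1) < ell D) (H : Divisor k X.functionField) :
    2 * ell H ≤ ell (H + D) + ell (H - D) := by
  classical
  have hK := isFF' (X := X) k hdim
  obtain ⟨z, hz, hnn⟩ := FF.exists_nonneg_equiv hK (show 0 < ell D by omega)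
  set E₁ := D + FunFld.div k z with hE₁
  have hl₁ : ell E₁ = 2 := by rw [hE₁, FF.ell_add_div hK hz, h2]
  haveI := FF.finiteDimensional_L hK E₁
  obtain ⟨x, hx, hxc⟩ : ∃ x ∈ L E₁, x ∉ L (0 : Divisor k X.functionField) := by
    by_contra! hc
    haveI := FF.finiteDimensional_L hK (0 : Divisor k X.functionField)
    have := Submodule.finrank_mono (show L E₁ ≤ L 0 from hc)
    have h0 := FF.ell_zero (k := k) (K := X.functionField) hK
    simp only [ell] at hl₁ h0
    omega
  have hx0 : x ≠ 0 := fun h => hxc (h ▸ zero_mem _)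
  set E₂ := E₁ + FunFld.div k x with hE₂
  have hnn₂ : 0 ≤ E₂ := (FF.mem_L_iff hK hx0).1 hx
  have hdisj : ∀ P, E₁ P = 0 ∨ E₂ P = 0 := by
    intro P
    by_contra! hP
    have h1 : 1 ≤ E₁ P := by have := hnn P; simp only [Finsupp.coe_zero, Pi.zero_apply] at this; omega
    have h2' : 1 ≤ E₂ P := by have := hnn₂ P; simp only [Finsupp.coe_zero, Pi.zero_apply] at this; omega
    have key : ∀ E : Divisor k X.functionField, 0 ≤ E → 1 ≤ E P → 0 ≤ E - Finsupp.single P 1 := fun E hE hEP R => by
      rw [Finsupp.sub_apply, Finsupp.single_apply, Finsupp.coe_zero, Pi.zero_apply]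
      split_ifs with e
      · subst e; omega
      · simpa using hE R
    have hle : ell (E₁ - Finsupp.single P 1) = 1 := by
      have h3 := hbpf P
      rw [h2] at h3
      have h4 := ell_pos_of_nonneg k hdim (key E₁ hnn h1)
      have h5 : ell (E₁ - Finsupp.single P 1) = ell (D - Finsupp.single P 1) := by
        rw [hE₁, add_sub_right_comm, FF.ell_add_div hK hz]
      omega
    have h6 := FF.eq_of_ell_eq_one hK (key E₁ hnn h1) hle hx0 (key E₂ hnn₂ h2') (by rw [hE₂]; abel)
    have h7 : FunFld.div k x = 0 := by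
      have := sub_left_inj.1 h6
      rw [hE₂] at this
      exact add_eq_left.1 this
    exact hxc ((FF.mem_L_iff hK hx0).2 (by rw [zero_add, h7]))
  set T := H + D
  haveI := FF.finiteDimensional_L hK T
  haveI := FF.finiteDimensional_L hK (T - E₁)
  haveI := FF.finiteDimensional_L hK (T - E₂)
  have hsum := Submodule.finrank_sup_add_finrank_inf_eq (L (T - E₁)) (L (T - E₂))
  have hsup : L (T - E₁) ⊔ L (T - E₂) ≤ L T :=
    sup_le (FF.L_mono (sub_le_self _ hnn)) (FF.L_mono (sub_le_self _ hnn₂))
  have hinf : (T - E₁) ⊓ (T - E₂) = T - E₁ - E₂ := by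
    refine Finsupp.ext fun P => ?_
    rw [Finsupp.inf_apply, Finsupp.sub_apply, Finsupp.sub_apply, Finsupp.sub_apply, Finsupp.sub_apply]
    have := hnn P; have := hnn₂ P; simp only [Finsupp.coe_zero, Pi.zero_apply] at *
    rcases hdisj P with h | h <;> rw [h] <;> simp only [sub_zero] <;>
      first
      | exact inf_eq_right.2 (by omega)
      | exact inf_eq_left.2 (by omega)
  have e₁ : ell (T - E₁) = ell H := by
    rw [show T - E₁ = H + (-FunFld.div k z) from by rw [hE₁]; simp only [T]; abel, ← FF.div_inv hK.1,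
      FF.ell_add_div hK (inv_ne_zero hz)]
  have e₂ : ell (T - E₂) = ell H := by
    rw [show T - E₂ = T - E₁ + (-FunFld.div k x) from by rw [hE₂]; abel, ← FF.div_inv hK.1,
      FF.ell_add_div hK (inv_ne_zero hx0), e₁]
  have e₃ : ell (T - E₁ - E₂) = ell (H - D) := by
    rw [show T - E₁ - E₂ = H - D + (-FunFld.div k z) + (-FunFld.div k z) + (-FunFld.div k x) from by
      rw [hE₂, hE₁]; simp only [T]; abel, ← FF.div_inv hK.1, ← FF.div_inv hK.1,
      FF.ell_add_div hK (inv_ne_zero hx0), FF.ell_add_div hK (inv_ne_zero hz), FF.ell_add_div hK (inv_ne_zero hz)]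
  rw [FF.L_inf, hinf] at hsum
  have := Submodule.finrank_mono hsup
  simp only [ell] at e₁ e₂ e₃ ⊢
  omega

end Groth.Agent.JacPts.Pencil
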