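import Groth.Agent.JacPts.Sect
import Groth.Agent.FFCurve.G12
import Mathlib.AlgebraicGeometry.AlgClosed.Basic

/-!
# Riemann-Roch lemmas for the geometry of the images of symmetric products in the Jacobian
-/

set_option autoImplicit false
set_option linter.style.haveILetI false
set_option linter.unusedSectionVars false
set_option backward.isDefEq.respectTransparency false
set_option backward.isDefEq.respectTransparency.types false

universe u

noncomputable section

open CategoryTheory AlgebraicGeometry TopologicalSpace FunFld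
open Groth.Agent.FFCurve

namespace Groth.Agent.JacPts

variable {X : Scheme.{u}} [IsIntegral X] (k : Type u) [Field k] [IsAlgClosed k]
  [X.Over (Spec (CommRingCat.of k))] [IsProper (X ↘ Spec (CommRingCat.of k))]
  [RegCurve X] (hdim : topologicalKrullDim X = 1)
include hdim

/-- Rational points of a curve. -/
abbrev RPt (X : Scheme.{u}) [X.Over (Spec (CommRingCat.of k))] : Type u :=
  {p : Spec (CommRingCat.of k) ⟶ X // p ≫ (X ↘ Spec (CommRingCat.of k)) = 𝟙 _}

/-- The divisor of a family of rational points. -/
def psum {n : ℕ} (P : Fin n → RPt k X) : Divisor k X.functionField :=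
  ∑ i, Finsupp.single (plc k hdim (P i).2) 1

/-- Every place is the place of a rational point. -/
theorem exists_rpt (Q : Place k X.functionField) : ∃ p : RPt k X, plc k hdim p.2 = Q := by
  let x := (placeEquiv k hdim).symm Q
  refine ⟨⟨pointOfClosedPoint (X ↘ Spec (CommRingCat.of k)) x.1 x.2, pointOfClosedPoint_comp _ _ _⟩, ?_⟩
  refine Eq.trans ?_ ((placeEquiv k hdim).apply_symm_apply Q)
  exact congrArg (toPlace k hdim) (Subtype.ext (pointOfClosedPoint_apply _ x.1 x.2 _))

theorem isFF' : IsFunctionField k X.functionField := isFunctionField_of_isAlgClosed (X := X) k hdim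

theorem deg_psum {n : ℕ} (P : Fin n → RPt k X) : (psum k hdim P).deg = n := by
  refine (deg_sum_plc k hdim Finset.univ (fun i => (P i).1) fun i => (P i).2).trans ?_
  rw [Finset.card_univ, Fintype.card_fin]

theorem psum_nonneg {n : ℕ} (P : Fin n → RPt k X) : 0 ≤ psum k hdim P :=
  Finset.sum_nonneg fun _ _ => Finsupp.single_nonneg.2 zero_le_one

/-- Effective divisors are sums of rational points. -/
theorem exists_psum_eq : ∀ {n : ℕ} {E : Divisor k X.functionField}, 0 ≤ E → E.deg = n →
    ∃ P : Fin n → RPt k X, psum k hdim P = E := by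
  classical
  intro n
  induction n with
  | zero =>
    intro E hE hd
    exact ⟨Fin.elim0, by
      rw [FF.eq_zero_of_nonneg_of_deg (isFF' k hdim) hE (by simpa using hd)]; simp [psum]⟩
  | succ n ih =>
    intro E hE hd
    obtain ⟨Q, hQ⟩ : ∃ Q, 0 < E Q := by
      by_contra! h
      have : E = 0 := le_antisymm h hE
      rw [this, FF.deg_zero'] at hd
      omega
    obtain ⟨p, hp⟩ := exists_rpt k hdim Q
    have h1 : 0 ≤ E - Finsupp.single Q 1 := fun R => by
      rw [Finsupp.sub_apply, Finsupp.single_apply, Finsupp.coe_zero, Pi.zero_apply]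
      split_ifs with e
      · subst e; omega
      · simpa using hE R
    obtain ⟨P, hP⟩ := ih h1 (by
      rw [FF.deg_sub, hd, FF.deg_single, FF.deg_eq_one (isFF' k hdim) Q]; omega)
    refine ⟨Fin.cons p P, ?_⟩
    rw [psum, Fin.sum_univ_succ]
    simp only [Fin.cons_zero, Fin.cons_succ]
    rw [show (∑ i, Finsupp.single (plc k hdim (P i).2) (1 : ℤ)) = _ from hP, hp]
    abel

/-- A class has a section iff it contains an effective divisor. -/
theorem exists_psum_divEq {n : ℕ} {D : Divisor k X.functionField} (hd : D.deg = n) (hl : 0 < ell D) :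
    ∃ P : Fin n → RPt k X, DivEq k (psum k hdim P) D := by
  obtain ⟨z, hz, hnn⟩ := FF.exists_nonneg_equiv (isFF' k hdim) hl
  obtain ⟨P, hP⟩ := exists_psum_eq k hdim hnn (by
    rw [FF.deg_add, hd, FF.deg_div (isFF' k hdim).1, add_zero])
  exact ⟨P, z, hz, hP⟩

theorem ell_mono {D E : Divisor k X.functionField} (h : D ≤ E) : ell D ≤ ell E := by
  haveI := FF.finiteDimensional_L (isFF' (X := X) k hdim) E
  exact Submodule.finrank_mono (FF.L_mono h)

theorem ell_pos_of_nonneg {D : Divisor k X.functionField} (h : 0 ≤ D) : 0 < ell D := by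
  have := ell_mono k hdim h
  rw [FF.ell_zero (isFF' (X := X) k hdim)] at this
  omega

theorem ell_pos_of_divEq_psum {n : ℕ} {D : Divisor k X.functionField} (P : Fin n → RPt k X)
    (h : DivEq k (psum k hdim P) D) : 0 < ell D := by
  rw [← DivEq.ell_eq k hdim h]
  exact ell_pos_of_nonneg k hdim (psum_nonneg k hdim P)

theorem ell_pos_iff {n : ℕ} {D : Divisor k X.functionField} (hd : D.deg = n) :
    0 < ell D ↔ ∃ P : Fin n → RPt k X, DivEq k (psum k hdim P) D :=
  ⟨exists_psum_divEq k hdim hd, fun ⟨P, h⟩ => ell_pos_of_divEq_psum k hdim P h⟩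

/-- Riemann-Roch at the canonical divisor `W`. -/
theorem rr {W : Divisor k X.functionField} (hW : IsCanonical k X.functionField W)
    (D : Divisor k X.functionField) :
    (ell D : ℤ) - ell (W - D) = D.deg + 1 - genus k X.functionField := by
  have := FF.riemann_roch (isFF' k hdim) hW D
  omega

variable [Smooth (X ↘ Spec (CommRingCat.of k))]

/-- A class of degree `g - 1 - r` has a section if it has one after adding any `r` points. -/
theorem ell_pos_of_forall_add {r : ℕ} {D : Divisor k X.functionField}
    (hd : D.deg + r = (genus k X.functionField : ℤ) - 1)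
    (h : ∀ P : Fin r → RPt k X, 0 < ell (D + psum k hdim P)) : 0 < ell D := by
  obtain ⟨W, hW⟩ := FF.exists_canonical (isFF' (X := X) k hdim)
  by_contra hc
  have h1 := rr k hdim hW D
  obtain ⟨σ, hσ, -, -, he⟩ := exists_pts X k hdim (isFF' k hdim) (W - D) ∅ r
  have h2 := h fun i => ⟨σ i, hσ i⟩
  have h3 := rr k hdim hW (D + psum k hdim fun i => ⟨σ i, hσ i⟩)
  rw [FF.deg_add, deg_psum] at h3
  rw [show W - (D + psum k hdim fun i => ⟨σ i, hσ i⟩) =
    W - D - ∑ i, Finsupp.single (plc k hdim (hσ i)) 1 from by rw [psum, sub_sub]] at h3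
  omega

/-- In degree `g - 1` residual classes have sections simultaneously. -/
theorem ell_residual_pos {W D : Divisor k X.functionField} (hW : IsCanonical k X.functionField W)
    (hd : D.deg = (genus k X.functionField : ℤ) - 1) : 0 < ell (W - D) ↔ 0 < ell D := by
  have h1 := rr k hdim hW D
  omega

/-- In degree `g` the residual class has a section iff the class moves. -/
theorem ell_residual_pos' {W D : Divisor k X.functionField} (hW : IsCanonical k X.functionField W)
    (hd : D.deg = (genus k X.functionField : ℤ)) : 0 < ell (W - D) ↔ 2 ≤ ell D := by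
  have h1 := rr k hdim hW D
  omega

/-- Points with the same class are equal in positive genus. -/
theorem plc_eq_of_divEq (hg : 0 < genus k X.functionField) {P Q : Place k X.functionField}
    (h : DivEq k (Finsupp.single P 1) (Finsupp.single Q (1 : ℤ))) : P = Q := by
  classical
  have hK := isFF' (X := X) k hdim
  obtain ⟨z, hz, he⟩ := h
  have hle : ell (Finsupp.single Q (1 : ℤ)) ≤ 1 := FF.ell_le_one_of_deg_one hK hg (by
    rw [FF.deg_single, FF.deg_eq_one hK Q]; rfl)
  have hpos : 0 < ell (Finsupp.single Q (1 : ℤ)) := ell_pos_of_nonneg k hdim (Finsupp.single_nonneg.2 zero_le_one)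
  have := FF.eq_of_ell_eq_one hK (Finsupp.single_nonneg.2 zero_le_one) (by omega) hz
    (Finsupp.single_nonneg.2 zero_le_one) he
  exact Finsupp.single_left_injective one_ne_zero this

theorem plc_injective {p q : RPt k X} (h : plc k hdim p.2 = plc k hdim q.2) : p = q := by
  have h' := congrArg Subtype.val ((placeEquiv k hdim).injective (show placeEquiv k hdim (cpt k p.2) = placeEquiv k hdim (cpt k q.2) from h))
  exact Subtype.ext (ext_of_apply_closedPoint_eq (X ↘ Spec (CommRingCat.of k)) p.2 q.2 h')

/-- Two divisors of degree two in the same class move. -/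
theorem two_le_ell_pair {a b c d : Place k X.functionField}
    (h : DivEq k (Finsupp.single a 1 + Finsupp.single b 1) (Finsupp.single c (1 : ℤ) + Finsupp.single d 1))
    (hca : c ≠ a) (hcb : c ≠ b) : 2 ≤ ell (Finsupp.single c (1 : ℤ) + Finsupp.single d 1) := by
  classical
  have hK := isFF' (X := X) k hdim
  by_contra hc
  have h0 : (0 : Divisor k X.functionField) ≤ Finsupp.single c (1 : ℤ) + Finsupp.single d 1 :=
    add_nonneg (Finsupp.single_nonneg.2 zero_le_one) (Finsupp.single_nonneg.2 zero_le_one)
  have := ell_pos_of_nonneg k hdim h0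
  obtain ⟨z, hz, he⟩ := h
  have h2 := FF.eq_of_ell_eq_one hK h0 (by omega) hz
    (add_nonneg (Finsupp.single_nonneg.2 zero_le_one) (Finsupp.single_nonneg.2 zero_le_one)) he
  have h3 := congrArg (fun E : Divisor k X.functionField => E c) h2
  simp only [Finsupp.add_apply, Finsupp.single_apply, if_neg hca.symm, if_neg hcb.symm, if_pos] at h3
  split_ifs at h3 <;> omega

/-- In genus at least two, for a fixed point not all pairs with it move. -/
theorem exists_pair_ell_le_one (hg : 2 ≤ genus k X.functionField) (b a : Place k X.functionField) :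
    ∃ p : RPt k X, plc k hdim p.2 ≠ a ∧ ell (Finsupp.single (plc k hdim p.2) (1 : ℤ) + Finsupp.single b 1) ≤ 1 := by
  classical
  have hK := isFF' (X := X) k hdim
  obtain ⟨W, hW⟩ := FF.exists_canonical hK
  have h1 := rr k hdim hW (Finsupp.single b 1)
  have hle : ell (Finsupp.single b (1 : ℤ)) ≤ 1 := FF.ell_le_one_of_deg_one hK (by omega) (by
    rw [FF.deg_single, FF.deg_eq_one hK b]; rfl)
  have hpos : 0 < ell (Finsupp.single b (1 : ℤ)) := ell_pos_of_nonneg k hdim (Finsupp.single_nonneg.2 zero_le_one)
  rw [FF.deg_single, FF.deg_eq_one hK b] at h1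
  obtain ⟨σ, hσ, -, hav, he⟩ := exists_pts X k hdim hK (W - Finsupp.single b 1) {a} 1
  refine ⟨⟨σ 0, hσ 0⟩, by simpa using hav 0, ?_⟩
  have h2 := rr k hdim hW (Finsupp.single (plc k hdim (hσ 0)) 1 + Finsupp.single b 1)
  rw [Fin.sum_univ_one] at he
  rw [FF.deg_add, FF.deg_single, FF.deg_single, FF.deg_eq_one hK, FF.deg_eq_one hK,
    show W - (Finsupp.single (plc k hdim (hσ 0)) (1 : ℤ) + Finsupp.single b 1) =
      W - Finsupp.single b 1 - Finsupp.single (plc k hdim (hσ 0)) 1 from by abel] at h2
  push_cast at h2 h1 he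
  omega

/-- If an effective class does not move, a point of it is a point of one of its two parts. -/
theorem sub_nonneg_or {A Y : Divisor k X.functionField} (hA : 0 ≤ A) (hY : 0 ≤ Y) (P : Place k X.functionField)
    (hl : ell (Y + A) ≤ 1) (h : 0 < ell (Y + A - Finsupp.single P 1)) :
    0 ≤ A - Finsupp.single P 1 ∨ 0 ≤ Y - Finsupp.single P 1 := by
  classical
  have hK := isFF' (X := X) k hdim
  have h0 : (0 : Divisor k X.functionField) ≤ Y + A := add_nonneg hY hA
  have := ell_pos_of_nonneg k hdim h0
  obtain ⟨z, hz, hnn⟩ := FF.exists_nonneg_equiv hK h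
  have h2 := FF.eq_of_ell_eq_one hK h0 (by omega) hz
    (F := Y + A - Finsupp.single P 1 + FunFld.div k z + Finsupp.single P 1)
    (add_nonneg hnn (Finsupp.single_nonneg.2 zero_le_one)) (by abel)
  have h3 : 1 ≤ (Y + A) P := by
    have h4 := hnn P
    have h5 := congrArg (fun E : Divisor k X.functionField => E P) h2
    simp only [Finsupp.add_apply, Finsupp.sub_apply, Finsupp.single_eq_same, Finsupp.coe_zero, Pi.zero_apply] at h4 h5 ⊢
    omega
  have key : ∀ E : Divisor k X.functionField, 0 ≤ E → 1 ≤ E P → 0 ≤ E - Finsupp.single P 1 := fun E hE hP R => by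
    rw [Finsupp.sub_apply, Finsupp.single_apply, Finsupp.coe_zero, Pi.zero_apply]
    split_ifs with e
    · subst e; omega
    · simpa using hE R
  rw [Finsupp.add_apply] at h3
  by_cases hAP : 1 ≤ A P
  · exact Or.inl (key A hA hAP)
  · exact Or.inr (key Y hY (by omega))

theorem ell_le_two (hg : 0 < genus k X.functionField) {D : Divisor k X.functionField} (hd : D.deg = 2) :
    ell D ≤ 2 := by
  have hK := isFF' (X := X) k hdim
  obtain ⟨Q, -⟩ := exists_place_not_mem hK (∅ : Finset (Place k X.functionField))
  have h1 := (FF.ell_sub_single_le hK D Q).2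
  have h2 : ell (D - Finsupp.single Q 1) ≤ 1 := FF.ell_le_one_of_deg_one hK hg (by
    rw [FF.deg_sub, hd, FF.deg_single, FF.deg_eq_one hK Q]; rfl)
  rw [FF.deg_eq_one hK Q] at h1
  omega

end Groth.Agent.JacPts
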