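import Groth.Agent.BlowSep.WideProper
import Groth.Agent.GrpScheme.Basic
import Groth.Agent.RedSub.Basic
import Mathlib.AlgebraicGeometry.AlgClosed.Basic
import Groth.Prelude.Def_Jac

/-!
# Subsets of a group scheme swept out by rational points
-/

set_option autoImplicit false
set_option linter.style.haveILetI false
set_option linter.unusedSectionVars false
set_option backward.isDefEq.respectTransparency false
set_option backward.isDefEq.respectTransparency.types false

universe u

noncomputable section

open CategoryTheory CategoryTheory.Limits AlgebraicGeometry TopologicalSpace MonoidalCategory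
  CartesianMonoidalCategory MonObj

namespace Groth.Agent.JacPts.WSet

variable {k : Type u} [Field k]

instance : Subsingleton ↥((𝟙_ (Over (Spec (CommRingCat.of k)))).left) :=
  inferInstanceAs (Subsingleton (PrimeSpectrum k))

instance : Nonempty ↥((𝟙_ (Over (Spec (CommRingCat.of k)))).left) :=
  ⟨IsLocalRing.closedPoint k⟩

instance : AlgebraicGeometry.IsReduced ((𝟙_ (Over (Spec (CommRingCat.of k)))).left) :=
  inferInstanceAs (AlgebraicGeometry.IsReduced (Spec (CommRingCat.of k)))

/-- The image point of a rational point. -/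
abbrev im {Y : Over (Spec (CommRingCat.of k))} (x : 𝟙_ (Over (Spec (CommRingCat.of k))) ⟶ Y) : Y.left :=
  x.left.base (IsLocalRing.closedPoint k)

theorem forall_base_iff {Y : Over (Spec (CommRingCat.of k))}
    (x : 𝟙_ (Over (Spec (CommRingCat.of k))) ⟶ Y) (S : Set Y.left) :
    (∀ p, x.left.base p ∈ S) ↔ im x ∈ S :=
  ⟨fun h => h _, fun h p => by
    rw [show p = IsLocalRing.closedPoint k from Subsingleton.elim (α := PrimeSpectrum k) _ _]; exact h⟩

theorem im_comp {Y Z : Over (Spec (CommRingCat.of k))} (x : 𝟙_ (Over (Spec (CommRingCat.of k))) ⟶ Y) (h : Y ⟶ Z) :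
    im (x ≫ h) = h.left.base (im x) := rfl

theorem left_w {Y : Over (Spec (CommRingCat.of k))} (x : 𝟙_ (Over (Spec (CommRingCat.of k))) ⟶ Y) :
    x.left ≫ Y.hom = 𝟙 _ := Over.w x

/-- A rational point is determined by its image. -/
theorem pt_ext {Y : Over (Spec (CommRingCat.of k))} {x y : 𝟙_ (Over (Spec (CommRingCat.of k))) ⟶ Y}
    (h : im x = im y) : x = y := by
  haveI : Subsingleton (Spec (CommRingCat.of k) : Scheme.{u}) := inferInstanceAs (Subsingleton (PrimeSpectrum k))
  haveI hx : IsClosedImmersion x.left := isClosedImmersion_of_comp_eq_id _ _ (left_w x)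
  haveI hy : IsClosedImmersion y.left := isClosedImmersion_of_comp_eq_id _ _ (left_w y)
  obtain ⟨l, hl⟩ := RedSub.exists_lift_closed y.left x.left (by
    rintro _ ⟨p, rfl⟩
    refine ⟨IsLocalRing.closedPoint k, h.symm.trans ?_⟩
    rw [show p = IsLocalRing.closedPoint k from Subsingleton.elim (α := PrimeSpectrum k) _ _])
  have h1 : l = 𝟙 _ := by
    have h2 := left_w x
    rw [← hl, Category.assoc, left_w y] at h2
    exact (Category.comp_id l).symm.trans h2
  ext
  rw [← hl, h1]
  exact Category.id_comp _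

/-- A group scheme over a field is separated. -/
instance isSeparated (G : Over (Spec (CommRingCat.of k))) [GrpObj G] : IsSeparated G.hom := by
  haveI : Subsingleton (Spec (CommRingCat.of k) : Scheme.{u}) := inferInstanceAs (Subsingleton (PrimeSpectrum k))
  exact ⟨GrpScheme.Basic.diagonal_mem @IsClosedImmersion (isClosedImmersion_of_comp_eq_id _ _ (Over.w η[G]))⟩

variable {Y J : Over (Spec (CommRingCat.of k))} [GrpObj J]

theorem isClosed_range (h : Y ⟶ J) [IsProper Y.hom] : IsClosed (Set.range h.left.base) := by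
  haveI : IsProper (h.left ≫ J.hom) := by rw [Over.w h]; infer_instance
  haveI : IsProper h.left := IsProper.of_comp h.left J.hom
  exact h.left.isClosedMap.isClosed_range

theorem image_transl (a : 𝟙_ (Over (Spec (CommRingCat.of k))) ⟶ J) (h : Y ⟶ J) :
    (Jac.transl J a).left.base '' Set.range h.left.base = Set.range (h ≫ Jac.transl J a).left.base :=
  (Set.range_comp _ _).symm

theorem image_range {J' : Over (Spec (CommRingCat.of k))} (g : J ⟶ J') (h : Y ⟶ J) :
    g.left.base '' Set.range h.left.base = Set.range (h ≫ g).left.base :=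
  (Set.range_comp _ _).symm

theorem comp_transl {T : Over (Spec (CommRingCat.of k))} (a : 𝟙_ (Over (Spec (CommRingCat.of k))) ⟶ J) (c : T ⟶ J) :
    c ≫ Jac.transl J a = c * (toUnit T ≫ a) := by
  rw [Jac.transl, MonObj.comp_mul, Category.comp_id, ← Category.assoc, toUnit_unique (c ≫ toUnit J) (toUnit T)]

theorem pt_comp_transl (a c : 𝟙_ (Over (Spec (CommRingCat.of k))) ⟶ J) : c ≫ Jac.transl J a = c * a := by
  rw [comp_transl, toUnit_unique (toUnit _) (𝟙 _), Category.id_comp]

theorem pt_comp_inv (c : 𝟙_ (Over (Spec (CommRingCat.of k))) ⟶ J) : c ≫ (𝟙 J)⁻¹ = c⁻¹ := by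
  rw [GrpObj.comp_inv, Category.comp_id]

variable [IsAlgClosed k]

/-- A rational point in the image comes from a rational point. -/
theorem exists_pt_of_mem (h : Y ⟶ J) [LocallyOfFiniteType Y.hom] {y : 𝟙_ (Over (Spec (CommRingCat.of k))) ⟶ J}
    (hy : im y ∈ Set.range h.left.base) : ∃ x : 𝟙_ (Over (Spec (CommRingCat.of k))) ⟶ Y, x ≫ h = y := by
  haveI : Subsingleton (Spec (CommRingCat.of k) : Scheme.{u}) := inferInstanceAs (Subsingleton (PrimeSpectrum k))
  haveI hc : IsClosedImmersion y.left := isClosedImmersion_of_comp_eq_id _ _ (left_w y)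
  haveI := LocallyOfFiniteType.jacobsonSpace Y.hom
  have hcl : IsClosed (h.left.base ⁻¹' {im y}) := by
    refine IsClosed.preimage h.left.continuous ?_
    have := y.left.isClosedEmbedding.isClosed_range
    rwa [Set.range_eq_singleton (y := im y) fun p => by
      rw [show p = IsLocalRing.closedPoint k from Subsingleton.elim (α := PrimeSpectrum k) _ _]] at this
  obtain ⟨z, hz⟩ := hy
  obtain ⟨q, hq1, hq2⟩ := nonempty_inter_closedPoints ⟨z, hz⟩ hcl.isLocallyClosed
  refine ⟨Over.homMk (pointOfClosedPoint Y.hom q hq2) (pointOfClosedPoint_comp _ _ _), pt_ext ?_⟩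
  show h.left.base ((pointOfClosedPoint Y.hom q hq2).base (IsLocalRing.closedPoint k)) = _
  rw [pointOfClosedPoint_apply]
  exact hq1

/-- Inclusions are tested on rational points of the source. -/
theorem inter_range_subset (h : Y ⟶ J) [LocallyOfFiniteType Y.hom] {Z T : Set J.left} (hZ : IsClosed Z) (hT : IsClosed T)
    (H : ∀ x : 𝟙_ (Over (Spec (CommRingCat.of k))) ⟶ Y, im (x ≫ h) ∈ Z → im (x ≫ h) ∈ T) :
    Z ∩ Set.range h.left.base ⊆ T := by
  haveI := LocallyOfFiniteType.jacobsonSpace Y.hom
  rintro _ ⟨hzZ, z, rfl⟩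
  suffices h.left.base ⁻¹' Z ⊆ h.left.base ⁻¹' T from this hzZ
  rw [← JacobsonSpace.closure_inter_closedPoints_eq_closure (hZ.preimage h.left.continuous).isLocallyClosed |>.trans
    (hZ.preimage h.left.continuous).closure_eq]
  refine closure_minimal ?_ (hT.preimage h.left.continuous)
  rintro q ⟨hq1, hq2⟩
  have h1 := H (Over.homMk (pointOfClosedPoint Y.hom q hq2) (pointOfClosedPoint_comp _ _ _))
  rw [im_comp] at h1
  rw [show im (Over.homMk (pointOfClosedPoint Y.hom q hq2) (pointOfClosedPoint_comp _ _ _) :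
    𝟙_ (Over (Spec (CommRingCat.of k))) ⟶ Y) = q from pointOfClosedPoint_apply _ _ _ _] at h1
  exact h1 hq1

theorem range_subset (h : Y ⟶ J) [LocallyOfFiniteType Y.hom] {T : Set J.left} (hT : IsClosed T)
    (H : ∀ x : 𝟙_ (Over (Spec (CommRingCat.of k))) ⟶ Y, im (x ≫ h) ∈ T) : Set.range h.left.base ⊆ T :=
  fun z hz => inter_range_subset h isClosed_univ hT (fun x _ => H x) ⟨trivial, hz⟩

/-- Morphisms from a reduced scheme agreeing on rational points agree. -/
theorem hom_ext_pts [LocallyOfFiniteType Y.hom] [IsReduced Y.left] {f g : Y ⟶ J}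
    (H : ∀ x : 𝟙_ (Over (Spec (CommRingCat.of k))) ⟶ Y, x ≫ f = x ≫ g) : f = g := by
  haveI := LocallyOfFiniteType.jacobsonSpace Y.hom
  ext
  refine ext_of_fromSpecResidueField_eq f.left g.left J.hom (closedPoints Y.left)
    (dense_iff_closure_eq.2 closure_closedPoints) (fun x hx => ?_) (by rw [Over.w f, Over.w g])
  rw [← cancel_epi (Spec.map (residueFieldIsoBase Y.hom x hx).hom), ← Category.assoc, ← Category.assoc]
  exact congrArg CommaMorphism.left (H (Over.homMk (pointOfClosedPoint Y.hom x hx) (pointOfClosedPoint_comp _ _ _)))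

end Groth.Agent.JacPts.WSet
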