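import Groth.Agent.JacPts.AJPt
import Groth.Agent.JacPts.RR
import Groth.Agent.JacPts.WSet
import Groth.Agent.FFCurve.Canonical

/-!
# Rational points of the Jacobian as normalised divisor classes
-/

set_option autoImplicit false
set_option linter.style.haveILetI false
set_option linter.unusedSectionVars false
set_option backward.isDefEq.respectTransparency false
set_option backward.isDefEq.respectTransparency.types false
set_option maxHeartbeats 800000

universe u

noncomputable section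

open CategoryTheory CategoryTheory.Limits AlgebraicGeometry MonoidalCategory CartesianMonoidalCategory MonObj
open FunFld Groth.Agent.FFCurve Groth.Agent.JacPts.WSet

namespace Groth.Agent.JacPts

variable {k : Type u} [Field k] [IsAlgClosed k] {X : Scheme.{u}} [X.Over (Spec (CommRingCat.of k))]
  [IsIntegral X] [IsProper (X ↘ Spec (CommRingCat.of k))] [RegCurve X] (hdim : topologicalKrullDim X = 1)
  {σ : Spec (CommRingCat.of k) ⟶ X} (hσ : σ ≫ (X ↘ Spec (CommRingCat.of k)) = 𝟙 _)
include hdim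

/-- The degree zero normalisation of a divisor. -/
def norm0 (D : Divisor k X.functionField) : Divisor k X.functionField :=
  D - D.deg • Finsupp.single (plc k hdim hσ) 1

theorem deg_norm0 (D : Divisor k X.functionField) : (norm0 hdim hσ D).deg = 0 := by
  rw [norm0, FF.deg_sub, Finsupp.smul_single, FF.deg_single, deg_plc k hdim hσ, smul_eq_mul]
  ring

theorem norm0_add (D E : Divisor k X.functionField) :
    norm0 hdim hσ (D + E) = norm0 hdim hσ D + norm0 hdim hσ E := by
  rw [norm0, norm0, norm0, FF.deg_add, add_smul]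
  abel

theorem norm0_zero : norm0 hdim hσ 0 = 0 := by rw [norm0, FF.deg_zero', zero_smul, sub_zero]

theorem exists_mod (D : Divisor k X.functionField) (hD : D.deg = 0) :
    ∃ (M : X.Modules) (hM : PicF.IsInvertible M), Curv2.deg k X M 1 = 0 ∧ DivEq k (divOf k hdim hM) D := by
  obtain ⟨M, hM, a, ha, h⟩ := exists_divOf_eq k hdim D
  refine ⟨M, hM, ?_, divEq_of_sub k hdim ha h⟩
  rw [deg_eq k hdim (isFF' k hdim) hM, h, FF.deg_sub, FF.deg_div (isFF' k hdim).1, hD, sub_zero]

/-- The module of a normalised divisor. -/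
def modOf (D : Divisor k X.functionField) : X.Modules := (exists_mod hdim _ (deg_norm0 hdim hσ D)).choose

theorem modOf_spec (D : Divisor k X.functionField) : ∃ (hM : PicF.IsInvertible (modOf hdim hσ D)),
    Curv2.deg k X (modOf hdim hσ D) 1 = 0 ∧ DivEq k (divOf k hdim hM) (norm0 hdim hσ D) :=
  (exists_mod hdim _ (deg_norm0 hdim hσ D)).choose_spec

variable {J : Over (Spec (CommRingCat.of k))} [GrpObj J]
  (ψ : (ModFun.PicDeg (X ↘ Spec (CommRingCat.of k)) 0).Hom ⊤ J)

/-- The point of the Jacobian of a divisor, normalised at the base point. -/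
def cls (D : Divisor k X.functionField) : 𝟙_ (Over (Spec (CommRingCat.of k))) ⟶ J :=
  pt hdim ψ (modOf hdim hσ D) (modOf_spec hdim hσ D).1 (modOf_spec hdim hσ D).2.1

theorem pt_eq_of_divEq {M N : X.Modules} (hM : PicF.IsInvertible M) (hdM : Curv2.deg k X M 1 = 0)
    (hN : PicF.IsInvertible N) (hdN : Curv2.deg k X N 1 = 0)
    (h : DivEq k (divOf k hdim hM) (divOf k hdim hN)) :
    pt hdim ψ M hM hdM = pt hdim ψ N hN hdN := by
  obtain ⟨z, hz, h⟩ := h
  obtain ⟨e⟩ := nonempty_iso_of_div k hdim hM hN hz (by rw [h]; abel)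
  exact pt_eq_of_iso hdim ψ hM hdM hN hdN e

theorem cls_eq_pt {D : Divisor k X.functionField} {M : X.Modules} (hM : PicF.IsInvertible M)
    (hd : Curv2.deg k X M 1 = 0) (h : DivEq k (divOf k hdim hM) (norm0 hdim hσ D)) :
    cls hdim hσ ψ D = pt hdim ψ M hM hd :=
  pt_eq_of_divEq hdim ψ _ _ hM hd
    (DivEq.trans' k hdim (modOf_spec hdim hσ D).2.2 (DivEq.symm' k hdim h))

theorem cls_congr {D E : Divisor k X.functionField} (h : DivEq k (norm0 hdim hσ D) (norm0 hdim hσ E)) :
    cls hdim hσ ψ D = cls hdim hσ ψ E :=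
  cls_eq_pt hdim hσ ψ _ _ (DivEq.trans' k hdim (modOf_spec hdim hσ E).2.2 (DivEq.symm' k hdim h))

theorem cls_single [Smooth (X ↘ Spec (CommRingCat.of k))] {j : Over.mk (X ↘ Spec (CommRingCat.of k)) ⟶ J}
    (hj : Jac.IsAbelJacobiAt (X ↘ Spec (CommRingCat.of k)) σ ψ j) (p : RPt k X) :
    (Over.homMk p.1 p.2 : 𝟙_ (Over (Spec (CommRingCat.of k))) ⟶ Over.mk (X ↘ Spec (CommRingCat.of k))) ≫ j =
      cls hdim hσ ψ (Finsupp.single (plc k hdim p.2) 1) := by
  obtain ⟨M, hM, hd, h, e⟩ := exists_pt_abelJacobi hdim ψ hσ hj p.2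
  rw [e]
  refine (cls_eq_pt hdim hσ ψ hM hd ?_).symm
  rw [norm0, FF.deg_single, deg_plc k hdim p.2, Nat.cast_one, _root_.mul_one, one_smul]
  exact h

/-- Linearly equivalent divisors have the same point. -/
theorem cls_congr' {D E : Divisor k X.functionField} (h : DivEq k D E) :
    cls hdim hσ ψ D = cls hdim hσ ψ E := by
  refine cls_congr hdim hσ ψ ?_
  rw [norm0, norm0, DivEq.deg_eq k hdim h, sub_eq_add_neg, sub_eq_add_neg]
  exact DivEq.add' k hdim h (divEq_refl k hdim _)

/-- Multiples of the base point do not change the point. -/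
theorem cls_add_base (D : Divisor k X.functionField) (n : ℤ) :
    cls hdim hσ ψ (D + n • Finsupp.single (plc k hdim hσ) 1) = cls hdim hσ ψ D := by
  refine cls_congr hdim hσ ψ ?_
  rw [norm0, norm0, FF.deg_add, Finsupp.smul_single, Finsupp.smul_single, Finsupp.smul_single, FF.deg_single,
    deg_plc k hdim hσ]
  simp only [smul_eq_mul, Nat.cast_one, _root_.mul_one, Finsupp.single_add, add_sub_add_right_eq_sub]
  exact divEq_refl k hdim _

variable [IsCommMonObj J] (hJ : Jac.IsJacobian (X ↘ Spec (CommRingCat.of k)) ⊤ J ψ)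
include hJ

theorem cls_add (D E : Divisor k X.functionField) :
    cls hdim hσ ψ (D + E) = cls hdim hσ ψ D * cls hdim hσ ψ E := by
  obtain ⟨hM, hdM, hDM⟩ := modOf_spec hdim hσ D
  obtain ⟨hN, hdN, hDN⟩ := modOf_spec hdim hσ E
  have hL := AmpleLib.isInvertible_tensorMod hM hN
  have h : DivEq k (divOf k hdim hL) (norm0 hdim hσ (D + E)) := by
    rw [norm0_add]
    exact DivEq.trans' k hdim (divEq_tensor k hdim hM hN) (DivEq.add' k hdim hDM hDN)
  have hdL : Curv2.deg k X (CohB1.tensorMod (modOf hdim hσ D) (modOf hdim hσ E)) 1 = 0 := by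
    rw [deg_eq k hdim (isFF' k hdim) hL, DivEq.deg_eq k hdim h, deg_norm0]
  rw [cls_eq_pt hdim hσ ψ hL hdL h]
  exact pt_mul hdim ψ hJ hM hdM hN hdN hL hdL (Iso.refl _)

theorem cls_zero : cls hdim hσ ψ 0 = 1 := by
  have h := cls_add hdim hσ ψ hJ 0 0
  rw [add_zero] at h
  exact (mul_eq_left (a := cls hdim hσ ψ 0)).1 h.symm

theorem cls_neg (D : Divisor k X.functionField) : cls hdim hσ ψ (-D) = (cls hdim hσ ψ D)⁻¹ := by
  refine eq_inv_of_mul_eq_one_left ?_
  rw [← cls_add hdim hσ ψ hJ, neg_add_cancel, cls_zero hdim hσ ψ hJ]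

theorem cls_sub (D E : Divisor k X.functionField) :
    cls hdim hσ ψ (D - E) = cls hdim hσ ψ D * (cls hdim hσ ψ E)⁻¹ := by
  rw [sub_eq_add_neg, cls_add hdim hσ ψ hJ, cls_neg hdim hσ ψ hJ]

/-- Every rational point of the Jacobian is the point of a divisor of degree zero. -/
theorem exists_cls (c : 𝟙_ (Over (Spec (CommRingCat.of k))) ⟶ J) :
    ∃ D : Divisor k X.functionField, D.deg = 0 ∧ cls hdim hσ ψ D = c := by
  obtain ⟨E, hE, rfl⟩ : ∃ (E : (PicF.XT (X ↘ Spec (CommRingCat.of k)) (𝟙_ (Over (Spec (CommRingCat.of k))))).Modules)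
      (hE : (ModFun.PicDeg (X ↘ Spec (CommRingCat.of k)) 0).ok (𝟙_ (Over (Spec (CommRingCat.of k)))) E),
      ψ.app _ E trivial hE = c :=
    (hJ.coarse.2.2 k (𝟙 _) trivial).1 c
  obtain ⟨hM, hd⟩ := deg_of_ok hdim hE
  refine ⟨divOf k hdim hM, by rw [← deg_eq k hdim (isFF' k hdim) hM, hd], ?_⟩
  have h0 : (divOf k hdim hM).deg = 0 := by rw [← deg_eq k hdim (isFF' k hdim) hM, hd]
  rw [pt_of_family hdim ψ hE hM hd (Iso.refl _)]
  refine cls_eq_pt hdim hσ ψ hM hd ?_
  rw [norm0, h0, zero_smul, sub_zero]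
  exact divEq_refl k hdim _

/-- Only principal divisors give the origin. -/
theorem divEq_of_cls_eq {D E : Divisor k X.functionField} (h : cls hdim hσ ψ D = cls hdim hσ ψ E) :
    DivEq k (norm0 hdim hσ D) (norm0 hdim hσ E) := by
  obtain ⟨hM, hdM, hDM⟩ := modOf_spec hdim hσ D
  obtain ⟨hN, hdN, hDN⟩ := modOf_spec hdim hσ E
  obtain ⟨M', hM', ⟨e⟩⟩ := (hJ.coarse.2.2 k (𝟙 _) trivial).2 _ _ (ok_of_iso hdim hM hdM (Iso.refl _))
    (ok_of_iso hdim hN hdN (Iso.refl _)) h
  obtain ⟨e'⟩ := nonempty_iso_structure_of_field k hM'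
  let eE : (Scheme.Modules.pullback (prI k X)).obj (modOf hdim hσ E) ≅
      (Scheme.Modules.pullback (prI k X)).obj (modOf hdim hσ D) :=
    e ≪≫ ProjTwist.tensCongr (Iso.refl _) ((Scheme.Modules.pullback _).mapIso e' ≪≫ QCoh.pullbackUnitIso _) ≪≫
      SecTwist.unitorR _
  obtain ⟨a⟩ := iso_pullback_inv' (k := k) (modOf hdim hσ E)
  obtain ⟨b⟩ := iso_pullback_inv' (k := k) (modOf hdim hσ D)
  exact DivEq.trans' k hdim (DivEq.symm' k hdim hDM) (DivEq.trans' k hdim
    (divEq_iso k hdim hN hM (a.symm ≪≫ (Scheme.Modules.pullback _).mapIso eE ≪≫ b)) hDN)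

/-- Divisors of one degree with the same point are equivalent. -/
theorem divEq_of_cls_eq' {D E : Divisor k X.functionField} (hd : D.deg = E.deg)
    (h : cls hdim hσ ψ D = cls hdim hσ ψ E) : DivEq k D E := by
  have h' := DivEq.add' k hdim (divEq_of_cls_eq hdim hσ ψ hJ h)
    (divEq_refl k hdim (D.deg • Finsupp.single (plc k hdim hσ) (1 : ℤ)))
  rwa [norm0, norm0, sub_add_cancel, hd, sub_add_cancel] at h'

/-- The Abel map separates rational points. -/
theorem cls_single_injective [Smooth (X ↘ Spec (CommRingCat.of k))] (hg : 0 < genus k X.functionField) {p q : RPt k X}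
    (h : cls hdim hσ ψ (Finsupp.single (plc k hdim p.2) 1) = cls hdim hσ ψ (Finsupp.single (plc k hdim q.2) 1)) :
    p = q :=
  plc_injective k hdim (plc_eq_of_divEq k hdim hg (divEq_of_cls_eq' hdim hσ ψ hJ
    (by rw [FF.deg_single, FF.deg_single, deg_plc k hdim p.2, deg_plc k hdim q.2]) h))

theorem cls_psum {n : ℕ} (P : Fin n → RPt k X) :
    cls hdim hσ ψ (psum k hdim P) = ∏ i, cls hdim hσ ψ (Finsupp.single (plc k hdim (P i).2) 1) := by
  classical
  rw [psum]
  induction (Finset.univ : Finset (Fin n)) using Finset.induction with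
  | empty => rw [Finset.sum_empty, Finset.prod_empty, cls_zero hdim hσ ψ hJ]
  | insert a t ha ih => rw [Finset.sum_insert ha, Finset.prod_insert ha, cls_add hdim hσ ψ hJ, ih]

end Groth.Agent.JacPts
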