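import Groth.Agent.JacPts.Det

/-!
# Evaluation of elements of Riemann–Roch spaces at rational points
-/

set_option autoImplicit false
set_option linter.style.haveILetI false
set_option linter.unusedSectionVars false
set_option backward.isDefEq.respectTransparency false
set_option backward.isDefEq.respectTransparency.types false

universe u

noncomputable section

open CategoryTheory CategoryTheory.Limits AlgebraicGeometry TopologicalSpace FunFld WithZero
open Groth.Agent.FFCurve Groth.Agent.CurveCoh

namespace Groth.Agent.JacPts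

variable {X : Scheme.{u}} [IsIntegral X] (k : Type u) [Field k]
  [X.Over (Spec (CommRingCat.of k))] [IsProper (X ↘ Spec (CommRingCat.of k))]
  [RegCurve X] (hdim : topologicalKrullDim X = 1)
include hdim

/-- The complement of the points of finitely many places. -/
def avoidOpen (B : Finset (Place k X.functionField)) : X.Opens :=
  ⟨(⋃ P ∈ (B : Set (Place k X.functionField)), {((placeEquiv k hdim).symm P).1})ᶜ,
    (B.finite_toSet.isClosed_biUnion fun P _ => ((placeEquiv k hdim).symm P).2).isOpen_compl⟩

theorem mem_avoidOpen_iff (B : Finset (Place k X.functionField)) (x : ZetaLib.ClosedPt X) :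
    x.1 ∈ avoidOpen k hdim B ↔ toPlace k hdim x ∉ B := by
  show x.1 ∈ (⋃ P ∈ (B : Set (Place k X.functionField)), {((placeEquiv k hdim).symm P).1})ᶜ ↔ _
  simp only [Set.mem_compl_iff, Set.mem_iUnion, Set.mem_singleton_iff, exists_prop, not_exists, not_and,
    Finset.mem_coe]
  constructor
  · exact fun h hB => h _ hB (congrArg Subtype.val ((placeEquiv k hdim).symm_apply_apply x)).symm
  · intro h P hP he
    have : x = (placeEquiv k hdim).symm P := Subtype.ext he
    rw [this] at h
    refine h ?_
    have e : toPlace k hdim ((placeEquiv k hdim).symm P) = P := (placeEquiv k hdim).apply_symm_apply P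
    rw [e]
    exact hP

theorem genericPoint_mem_avoidOpen (B : Finset (Place k X.functionField)) :
    genericPoint X ∈ avoidOpen k hdim B := by
  show genericPoint X ∈ (⋃ P ∈ (B : Set (Place k X.functionField)), {((placeEquiv k hdim).symm P).1})ᶜ
  simp only [Set.mem_compl_iff, Set.mem_iUnion, Set.mem_singleton_iff, not_exists]
  intro P _ hx
  haveI := FFCurve.isDVR k hdim (x := genericPoint X) (hx ▸ ((placeEquiv k hdim).symm P).2)
  exact IsDiscreteValuationRing.not_isField (X.presheaf.stalk (genericPoint X)) (Field.toIsField X.functionField)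

variable {Dv : Divisor k X.functionField} {B : Finset (Place k X.functionField)} (hB : Dv.support ⊆ B)

/-- The section of an element of `L(D)` away from the support. -/
theorem exists_secOf (hB : Dv.support ⊆ B) (z : ↥(FunFld.L Dv)) :
    ∃ s : Γ(X, avoidOpen k hdim B), secK _ (genericPoint_mem_avoidOpen k hdim B) s = z.1 :=
  exists_secK_eq k hdim _ _ z.1 fun x hx => by
    have h := z.2 (toPlace k hdim x)
    rwa [show Dv (toPlace k hdim x) = 0 from Finsupp.notMem_support_iff.1 fun hm =>
      (mem_avoidOpen_iff k hdim B x).1 hx (hB hm), exp_zero] at h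

/-- The section of an element of `L(D)` away from the support. -/
def secOf (z : ↥(FunFld.L Dv)) : Γ(X, avoidOpen k hdim B) := (exists_secOf k hdim hB z).choose

theorem secK_secOf (z : ↥(FunFld.L Dv)) :
    secK _ (genericPoint_mem_avoidOpen k hdim B) (secOf k hdim hB z) = z.1 :=
  (exists_secOf k hdim hB z).choose_spec

variable {p : Spec (CommRingCat.of k) ⟶ X} (hp : p ≫ (X ↘ Spec (CommRingCat.of k)) = 𝟙 _)

theorem pt_mem (h : plc k hdim hp ∉ B) : p.base (IsLocalRing.closedPoint k) ∈ avoidOpen k hdim B :=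
  (mem_avoidOpen_iff k hdim B (cpt k hp)).2 h

/-- Evaluation of elements of `L(D)` at a rational point outside the support. -/
def evalL (h : plc k hdim hp ∉ B) : ↥(FunFld.L Dv) →ₗ[k] k where
  toFun z := ev p _ (top_le p _ (pt_mem k hdim hp h)) (secOf k hdim hB z)
  map_add' z w := by
    rw [← map_add]
    congr 1
    apply secK_injective _ (genericPoint_mem_avoidOpen k hdim B)
    rw [map_add, secK_secOf, secK_secOf, secK_secOf]
    rfl
  map_smul' c z := by
    have e : secOf k hdim hB (c • z) = kMap k _ c * secOf k hdim hB z := by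
      apply secK_injective _ (genericPoint_mem_avoidOpen k hdim B)
      rw [map_mul, secK_kMap, secK_secOf, secK_secOf, Submodule.coe_smul, Algebra.smul_def]
    rw [e, map_mul, ev_kMap k hdim hp]
    rfl

theorem evalL_eq_zero_iff (h : plc k hdim hp ∉ B) (z : ↥(FunFld.L Dv)) :
    evalL k hdim hB hp h z = 0 ↔ (plc k hdim hp).1 z.1 ≠ 1 := by
  show ev p _ _ (secOf k hdim hB z) = 0 ↔ _
  rw [ev_eq_zero_iff, ← secK_secOf k hdim hB z]
  exact not_congr (isUnit_germ_iff k hdim (cpt k hp) (pt_mem k hdim hp h) _)

theorem evalL_eq_of_plc_eq {p' : Spec (CommRingCat.of k) ⟶ X} (hp' : p' ≫ (X ↘ Spec (CommRingCat.of k)) = 𝟙 _)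
    (e : plc k hdim hp = plc k hdim hp') (h : plc k hdim hp ∉ B) (h' : plc k hdim hp' ∉ B) (z : ↥(FunFld.L Dv)) :
    evalL k hdim hB hp h z = evalL k hdim hB hp' h' z := by
  show ev p _ _ (secOf k hdim hB z) = ev p' _ _ (secOf k hdim hB z)
  set s := secOf k hdim hB z
  set c := ev p _ (top_le p _ (pt_mem k hdim hp h)) s with hc
  have h1 : ev p _ (top_le p _ (pt_mem k hdim hp h)) (s - kMap k _ c) = 0 := by
    rw [map_sub, ev_kMap k hdim hp, sub_self]
  have e1 : p.base (IsLocalRing.closedPoint k) = p'.base (IsLocalRing.closedPoint k) :=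
    congrArg Subtype.val ((placeEquiv k hdim).injective (a₁ := cpt k hp) (a₂ := cpt k hp') e)
  rw [ev_eq_zero_iff, e1, ← ev_eq_zero_iff p' _ (top_le p' _ (pt_mem k hdim hp' h')), map_sub,
    ev_kMap k hdim hp', sub_eq_zero] at h1
  exact h1.symm

theorem evalL_eq_zero_of_mem {E : Divisor k X.functionField} (h : plc k hdim hp ∉ B)
    (z : ↥(FunFld.L Dv)) (hz : z.1 ∈ FunFld.L (Dv - E)) (hE : 1 ≤ E (plc k hdim hp)) :
    evalL k hdim hB hp h z = 0 := by
  rw [evalL_eq_zero_iff]
  intro h1
  have h2 := hz (plc k hdim hp)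
  rw [h1, ← exp_zero, exp_le_exp, Finsupp.sub_apply, Finsupp.notMem_support_iff.1 fun hm => h (hB hm)] at h2
  omega

theorem mem_of_evalL_eq_zero {n : ℕ} (σ : Fin n → (Spec (CommRingCat.of k) ⟶ X))
    (hσ : ∀ i, σ i ≫ (X ↘ Spec (CommRingCat.of k)) = 𝟙 _) (hσB : ∀ i, plc k hdim (hσ i) ∉ B)
    (hinj : Function.Injective fun i => plc k hdim (hσ i)) (z : ↥(FunFld.L Dv))
    (hz : ∀ i, evalL k hdim hB (hσ i) (hσB i) z = 0) :
    z.1 ∈ FunFld.L (Dv - ∑ i, Finsupp.single (plc k hdim (hσ i)) (1 : ℤ)) := by
  classical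
  intro Q
  rw [Finsupp.sub_apply, Finsupp.finsetSum_apply]
  by_cases hQ : ∃ i, plc k hdim (hσ i) = Q
  · obtain ⟨i, rfl⟩ := hQ
    rw [Finset.sum_eq_single i (fun j _ hj => Finsupp.single_eq_of_ne (fun e => hj (hinj e.symm)))
      (fun h => absurd (Finset.mem_univ i) h), Finsupp.single_eq_same,
      Finsupp.notMem_support_iff.1 fun hm => hσB i (hB hm)]
    refine (FF.lt_exp_iff _ _).1 ?_
    rw [exp_zero]
    refine lt_of_le_of_ne ?_ ((evalL_eq_zero_iff k hdim hB (hσ i) (hσB i) z).1 (hz i))
    have h := z.2 (plc k hdim (hσ i))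
    rwa [Finsupp.notMem_support_iff.1 fun hm => hσB i (hB hm), exp_zero] at h
  · rw [Finset.sum_eq_zero fun i _ => Finsupp.single_eq_of_ne (fun e => hQ ⟨i, e.symm⟩), sub_zero]
    exact z.2 Q

omit hdim in
variable (X) in
/-- Distinct rational points in general position with respect to `L(D)`. -/
theorem exists_pts [IsSepClosed k] [Smooth (X ↘ Spec (CommRingCat.of k))] (hdim : topologicalKrullDim X = 1)
    (hK : IsFunctionField k X.functionField) (D : Divisor k X.functionField) (B : Finset (Place k X.functionField)) :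
    ∀ n : ℕ, ∃ (σ : Fin n → (Spec (CommRingCat.of k) ⟶ X))
      (h : ∀ i, σ i ≫ (X ↘ Spec (CommRingCat.of k)) = 𝟙 _),
      Function.Injective (fun i => plc k hdim (h i)) ∧ (∀ i, plc k hdim (h i) ∉ B) ∧
      ell (D - ∑ i, Finsupp.single (plc k hdim (h i)) 1) ≤ ell D - n := by
  classical
  intro n
  induction n with
  | zero => exact ⟨Fin.elim0, fun i => i.elim0, fun i => i.elim0, fun i => i.elim0, by simp⟩
  | succ n ih =>
    obtain ⟨σ, h, hinj, hav, he⟩ := ih
    set E := D - ∑ i, Finsupp.single (plc k hdim (h i)) 1 with hE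
    haveI := FF.finiteDimensional_L hK E
    obtain ⟨x, hx, hx'⟩ : ∃ x : X.functionField, x ∈ L E ∧ (0 < ell E → x ≠ 0) := by
      by_cases h0 : 0 < ell E
      · obtain ⟨x, hx, hx0⟩ := (L E).exists_mem_ne_zero_of_ne_bot fun e => by
          simp only [ell] at h0
          rw [e, finrank_bot] at h0
          exact lt_irrefl _ h0
        exact ⟨x, hx, fun _ => hx0⟩
      · exact ⟨0, zero_mem _, fun h => absurd h h0⟩
    let Bad : Finset (Place k X.functionField) := B ∪ (Finset.univ.image fun i => plc k hdim (h i)) ∪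
      (E.support ∪ (FF.finite_support_ord hK.1 x).toFinset)
    obtain ⟨p, hp, hp'⟩ := exists_ratPt_avoid X k hdim (Bad.map (placeEquiv k hdim).symm.toEmbedding)
    have hn : plc k hdim hp ∉ Bad := fun hm =>
      hp' (cpt k hp) (Finset.mem_map.2 ⟨_, hm, (placeEquiv k hdim).symm_apply_apply _⟩) rfl
    simp only [Bad, Finset.mem_union, Finset.mem_image, Finset.mem_univ, true_and, not_or, not_exists,
      Finsupp.mem_support_iff, Set.Finite.mem_toFinset, Function.mem_support, not_not] at hn
    refine ⟨Fin.cons p σ, Fin.cases hp h, ?_, Fin.cases hn.1.1 hav, ?_⟩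
    · intro a b hab
      induction a using Fin.cases with
      | zero =>
        induction b using Fin.cases with
        | zero => rfl
        | succ b => exact absurd hab.symm (hn.1.2 b)
      | succ a =>
        induction b using Fin.cases with
        | zero => exact absurd hab (hn.1.2 a)
        | succ b => exact congrArg Fin.succ (hinj hab)
    rw [Fin.sum_univ_succ, add_comm, ← sub_sub]
    show ell (E - Finsupp.single (plc k hdim hp) 1) ≤ ell D - (n + 1)
    rcases Nat.eq_zero_or_pos (ell E) with h0 | h0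
    · have := (FF.ell_sub_single_le hK E (plc k hdim hp)).1
      omega
    · have h1 : ell (E - Finsupp.single (plc k hdim hp) 1) < ell E :=
        (FF.ell_lt_iff_exists hK E _).2 ⟨x, hx, by
          rw [hn.2.1, exp_zero, FF.val_eq_one_iff _ (hx' h0)]; exact hn.2.2⟩
      omega

end Groth.Agent.JacPts
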