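import Groth.Agent.JacPts.Phi

/-!
# Rational points of the images of fibre powers of a curve in its Jacobian
-/

set_option autoImplicit false
set_option linter.style.haveILetI false
set_option linter.unusedSectionVars false
set_option backward.isDefEq.respectTransparency false
set_option backward.isDefEq.respectTransparency.types false
set_option maxHeartbeats 800000

universe u

noncomputable section

open CategoryTheory CategoryTheory.Limits AlgebraicGeometry MonoidalCategory CartesianMonoidalCategory MonObj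
open FunFld Groth.Agent.FFCurve Groth.Agent.JacPts.WSet

namespace Groth.Agent.JacPts

variable {k : Type u} [Field k] {X : Scheme.{u}} [X.Over (Spec (CommRingCat.of k))]
  {J : Over (Spec (CommRingCat.of k))} [GrpObj J] (j : Over.mk (X ↘ Spec (CommRingCat.of k)) ⟶ J)

variable (k X) in
/-- The fibre power of the curve, over the base. -/
abbrev pow (r : ℕ) : Over (Spec (CommRingCat.of k)) :=
  Over.mk (WidePullback.base fun (_ : Fin r) => (X ↘ Spec (CommRingCat.of k)))

variable (k X) in
/-- The projections. -/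
abbrev prj (r : ℕ) (i : Fin r) : pow k X r ⟶ Over.mk (X ↘ Spec (CommRingCat.of k)) :=
  Over.homMk (WidePullback.π (fun (_ : Fin r) => (X ↘ Spec (CommRingCat.of k))) i)
    (WidePullback.π_arrow (fun (_ : Fin r) => (X ↘ Spec (CommRingCat.of k))) i)

/-- The sum map from the fibre power to the group. -/
abbrev sym (r : ℕ) : pow k X r ⟶ J := (List.ofFn fun i : Fin r => prj k X r i ≫ j).prod

theorem comp_list_prod {T T' : Over (Spec (CommRingCat.of k))} (x : T ⟶ T') (l : List (T' ⟶ J)) :
    x ≫ l.prod = (l.map (x ≫ ·)).prod := by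
  induction l with
  | nil => simp [MonObj.comp_one]
  | cons a t ih => rw [List.prod_cons, MonObj.comp_mul, ih, List.map_cons, List.prod_cons]

instance isProper_pow [IsProper (X ↘ Spec (CommRingCat.of k))] (r : ℕ) : IsProper (pow k X r).hom :=
  BlowSep.isProper_base _

theorem isClosed_range' [IsProper (X ↘ Spec (CommRingCat.of k))] {r : ℕ} (h : pow k X r ⟶ J) :
    IsClosed (Set.range h.left.base) := isClosed_range h

/-- A family of rational points as a point of the fibre power. -/
def tuple {r : ℕ} (P : Fin r → RPt k X) : 𝟙_ (Over (Spec (CommRingCat.of k))) ⟶ pow k X r :=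
  Over.homMk (WidePullback.lift (𝟙 _) (fun i => (P i).1) fun i => (P i).2)
    (WidePullback.lift_base _ _ _ _)

/-- The members of a point of the fibre power. -/
def comps {r : ℕ} (x : 𝟙_ (Over (Spec (CommRingCat.of k))) ⟶ pow k X r) (i : Fin r) : RPt k X :=
  ⟨(x ≫ prj k X r i).left, Over.w (x ≫ prj k X r i)⟩

theorem comps_tuple {r : ℕ} (P : Fin r → RPt k X) : comps (tuple P) = P :=
  funext fun i => Subtype.ext (WidePullback.lift_π _ _ _ _ i)

variable [IsIntegral X] [IsProper (X ↘ Spec (CommRingCat.of k))] [RegCurve X] [IsAlgClosed k]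
  [Smooth (X ↘ Spec (CommRingCat.of k))] (hdim : topologicalKrullDim X = 1)
  {σ : Spec (CommRingCat.of k) ⟶ X} (hσ : σ ≫ (X ↘ Spec (CommRingCat.of k)) = 𝟙 _)
  [IsCommMonObj J]
  (ψ : (ModFun.PicDeg (X ↘ Spec (CommRingCat.of k)) 0).Hom ⊤ J)
  (hJ : Jac.IsJacobian (X ↘ Spec (CommRingCat.of k)) ⊤ J ψ)
  {j} (hj : Jac.IsAbelJacobiAt (X ↘ Spec (CommRingCat.of k)) σ ψ j)
include hdim hJ hj

theorem comp_sym {r : ℕ} (x : 𝟙_ (Over (Spec (CommRingCat.of k))) ⟶ pow k X r) :
    x ≫ sym j r = cls hdim hσ ψ (psum k hdim (comps x)) := by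
  rw [comp_list_prod, List.map_ofFn, cls_psum hdim hσ ψ hJ, List.prod_ofFn]
  refine Finset.prod_congr rfl fun i _ => ?_
  refine Eq.trans ?_ (cls_single hdim hσ ψ hj (comps x i))
  show x ≫ prj k X r i ≫ j = _
  rw [← Category.assoc]
  rfl

/-- Rational points of a translate of the image of a fibre power. -/
theorem mem_range_transl_iff {r : ℕ} (a c : 𝟙_ (Over (Spec (CommRingCat.of k))) ⟶ J) :
    im c ∈ Set.range (sym j r ≫ Jac.transl J a).left.base ↔
      ∃ P : Fin r → RPt k X, c = cls hdim hσ ψ (psum k hdim P) * a := by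
  constructor
  · intro h
    obtain ⟨x, hx⟩ := exists_pt_of_mem _ h
    exact ⟨comps x, by rw [← hx, ← Category.assoc, comp_sym hdim hσ ψ hJ hj, pt_comp_transl]⟩
  · rintro ⟨P, rfl⟩
    refine ⟨im (tuple P), ?_⟩
    rw [← im_comp, ← Category.assoc, comp_sym hdim hσ ψ hJ hj, pt_comp_transl, comps_tuple]

/-- Rational points of the image of a fibre power. -/
theorem mem_range_iff {r : ℕ} (c : 𝟙_ (Over (Spec (CommRingCat.of k))) ⟶ J) :
    im c ∈ Set.range (sym j r).left.base ↔ ∃ P : Fin r → RPt k X, c = cls hdim hσ ψ (psum k hdim P) := by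
  constructor
  · intro h
    obtain ⟨x, hx⟩ := exists_pt_of_mem _ h
    exact ⟨comps x, by rw [← hx, comp_sym hdim hσ ψ hJ hj]⟩
  · rintro ⟨P, rfl⟩
    refine ⟨im (tuple P), ?_⟩
    rw [← im_comp, comp_sym hdim hσ ψ hJ hj, comps_tuple]

/-- Classes in the image of a fibre power are those with sections. -/
theorem exists_psum_cls_iff {r : ℕ} (D : Divisor k X.functionField) :
    (∃ P : Fin r → RPt k X, cls hdim hσ ψ D = cls hdim hσ ψ (psum k hdim P)) ↔
      0 < ell (norm0 hdim hσ D + (r : ℤ) • Finsupp.single (plc k hdim hσ) 1) := by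
  have hn : ∀ P : Fin r → RPt k X, psum k hdim P =
      norm0 hdim hσ (psum k hdim P) + (r : ℤ) • Finsupp.single (plc k hdim hσ) 1 := fun P => by
    rw [norm0, deg_psum]; abel
  rw [ell_pos_iff k hdim (n := r) (by
    rw [FF.deg_add, deg_norm0, Finsupp.smul_single, FF.deg_single, deg_plc k hdim hσ, smul_eq_mul]; ring)]
  refine exists_congr fun P => ⟨fun h => ?_, fun h => ?_⟩
  · rw [hn P]
    exact DivEq.add' k hdim (DivEq.symm' k hdim (divEq_of_cls_eq hdim hσ ψ hJ h)) (divEq_refl k hdim _)
  · refine cls_congr hdim hσ ψ ?_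
    rw [hn P] at h
    obtain ⟨z, hz, h⟩ := h
    refine DivEq.symm' k hdim ⟨z, hz, ?_⟩
    rw [add_assoc, add_comm ((r : ℤ) • _) (FunFld.div k z), ← add_assoc] at h
    exact add_right_cancel h

theorem mem_range_cls_iff {r : ℕ} (D : Divisor k X.functionField) (hd : D.deg = r) :
    im (cls hdim hσ ψ D) ∈ Set.range (sym j r).left.base ↔ 0 < ell D := by
  rw [mem_range_iff hdim hσ ψ hJ hj, exists_psum_cls_iff hdim hσ ψ hJ hj, norm0, hd, sub_add_cancel]

/-- Translates, in divisor terms. -/
theorem mem_range_transl_cls_iff {r : ℕ} (A D : Divisor k X.functionField) (hd : D.deg - A.deg = r) :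
    im (cls hdim hσ ψ D) ∈ Set.range (sym j r ≫ Jac.transl J (cls hdim hσ ψ A)).left.base ↔
      0 < ell (D - A) := by
  rw [mem_range_transl_iff hdim hσ ψ hJ hj]
  rw [← mem_range_cls_iff hdim hσ ψ hJ hj (D - A) (by rw [FF.deg_sub, hd]), mem_range_iff hdim hσ ψ hJ hj]
  refine exists_congr fun P => ?_
  rw [cls_sub hdim hσ ψ hJ, mul_inv_eq_iff_eq_mul]

end Groth.Agent.JacPts
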