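import Groth.Agent.JacPts.Sym

/-!
# Uniqueness of the isomorphism underlying an isomorphism of Jacobians
-/

set_option autoImplicit false
set_option linter.style.haveILetI false
set_option linter.unusedSectionVars false
set_option backward.isDefEq.respectTransparency false
set_option backward.isDefEq.respectTransparency.types false
set_option maxHeartbeats 800000

universe u

noncomputable section

open CategoryTheory CategoryTheory.Limits AlgebraicGeometry MonoidalCategory CartesianMonoidalCategory MonObj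
open FunFld Groth.Agent.FFCurve Groth.Agent.JacPts.WSet

namespace Groth.Agent.JacPts

variable {k : Type u} [Field k] {C C' : Scheme.{u}}
  [C.Over (Spec (CommRingCat.of k))] [C'.Over (Spec (CommRingCat.of k))]
  (α : C ≅ C') (hα : α.hom ≫ (C' ↘ Spec (CommRingCat.of k)) = (C ↘ Spec (CommRingCat.of k)))

/-- Transport of rational points. -/
def mapPt (t : RPt k C) : RPt k C' := ⟨t.1 ≫ α.hom, by rw [Category.assoc, hα, t.2]⟩

theorem exists_mapPt_eq (p : RPt k C') : ∃ t : RPt k C, mapPt α hα t = p :=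
  ⟨⟨p.1 ≫ α.inv, by rw [← hα, Category.assoc, α.inv_hom_id_assoc, p.2]⟩,
    Subtype.ext (by simp [mapPt])⟩

theorem mapPt_injective : Function.Injective (mapPt α hα) := fun s t h =>
  Subtype.ext ((cancel_mono α.hom).1 (congrArg Subtype.val h))

/-- The point attached to a rational point. -/
abbrev opt (t : RPt k C) : 𝟙_ (Over (Spec (CommRingCat.of k))) ⟶ Over.mk (C ↘ Spec (CommRingCat.of k)) :=
  Over.homMk t.1 t.2

theorem opt_comp (t : RPt k C) : opt t ≫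
    (Over.homMk α.hom hα : Over.mk (C ↘ Spec (CommRingCat.of k)) ⟶ Over.mk (C' ↘ Spec (CommRingCat.of k))) =
    opt (mapPt α hα t) := by
  ext; rfl

theorem comp_zpow {J : Over (Spec (CommRingCat.of k))} [GrpObj J] {T T' : Over (Spec (CommRingCat.of k))}
    (x : T ⟶ T') (v : T' ⟶ J) (s : ℤ) : x ≫ v ^ s = (x ≫ v) ^ s :=
  map_zpow (MonoidHom.mk' (fun f : T' ⟶ J => x ≫ f) (fun a b => MonObj.comp_mul x a b)) v s

/-- The relation between the images of a point on the two curves. -/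
theorem rel_pt {J J' : Over (Spec (CommRingCat.of k))} [GrpObj J] [GrpObj J']
    {j : Over.mk (C ↘ Spec (CommRingCat.of k)) ⟶ J} {j' : Over.mk (C' ↘ Spec (CommRingCat.of k)) ⟶ J'}
    {β : J ⟶ J'} {c : 𝟙_ (Over (Spec (CommRingCat.of k))) ⟶ J'} {s : ℤ}
    (h : Over.homMk α.hom hα ≫ j' = (j ≫ β) ^ s * (toUnit (Over.mk (C ↘ Spec (CommRingCat.of k))) ≫ c))
    (t : RPt k C) : opt (mapPt α hα t) ≫ j' = (opt t ≫ j ≫ β) ^ s * c := by
  rw [← opt_comp α hα, Category.assoc, h, MonObj.comp_mul, comp_zpow, ← Category.assoc (opt t) (toUnit _),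
    toUnit_unique (opt t ≫ toUnit _) (𝟙 _), Category.id_comp]

include hα in
theorem inv_comp_struct : α.inv ≫ (C ↘ Spec (CommRingCat.of k)) = (C' ↘ Spec (CommRingCat.of k)) := by
  rw [← hα, α.inv_hom_id_assoc]

/-- The relation read in the other direction. -/
theorem rel_pt_inv {J J' : Over (Spec (CommRingCat.of k))} [GrpObj J] [GrpObj J'] [IsCommMonObj J']
    {j : Over.mk (C ↘ Spec (CommRingCat.of k)) ⟶ J} {j' : Over.mk (C' ↘ Spec (CommRingCat.of k)) ⟶ J'}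
    (β : J ≅ J') [IsMonHom β.hom] {c : 𝟙_ (Over (Spec (CommRingCat.of k))) ⟶ J'} {s : ℤ} (hs : s * s = 1)
    (h : Over.homMk α.hom hα ≫ j' = (j ≫ β.hom) ^ s * (toUnit (Over.mk (C ↘ Spec (CommRingCat.of k))) ≫ c))
    (p : RPt k C') : opt (mapPt α.symm (inv_comp_struct α hα) p) ≫ j =
      (opt p ≫ j' ≫ β.inv) ^ s * (c ≫ β.inv) ^ (-s) := by
  let φ : (𝟙_ (Over (Spec (CommRingCat.of k))) ⟶ J) →* (𝟙_ (Over (Spec (CommRingCat.of k))) ⟶ J') :=
    MonoidHom.mk' (fun f => f ≫ β.hom) (fun a b => MonObj.mul_comp a b β.hom)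
  refine (cancel_mono β.hom).1 ?_
  show φ _ = φ _
  rw [map_mul, map_zpow, map_zpow]
  simp only [φ, MonoidHom.mk'_apply, Category.assoc, β.inv_hom_id, Category.comp_id]
  have hp : mapPt α hα (mapPt α.symm (inv_comp_struct α hα) p) = p := Subtype.ext (by simp [mapPt])
  have h1 := rel_pt α hα h (mapPt α.symm (inv_comp_struct α hα) p)
  rw [hp] at h1
  rw [h1, mul_zpow, ← zpow_mul, hs, zpow_one, zpow_neg, mul_inv_cancel_right]

variable [IsAlgClosed k] [IsProper (C ↘ Spec (CommRingCat.of k))] [IsIntegral C]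
  [IsProper (C' ↘ Spec (CommRingCat.of k))] [IsIntegral C'] [RegCurve C']
  [Smooth (C' ↘ Spec (CommRingCat.of k))]
  (hdim' : topologicalKrullDim C' = 1)
  {σ' : Spec (CommRingCat.of k) ⟶ C'} (hσ' : σ' ≫ (C' ↘ Spec (CommRingCat.of k)) = 𝟙 _)
  {J' : Over (Spec (CommRingCat.of k))} [GrpObj J'] [IsCommMonObj J']
  (ψ' : (ModFun.PicDeg (C' ↘ Spec (CommRingCat.of k)) 0).Hom ⊤ J')
  (hJ' : Jac.IsJacobian (C' ↘ Spec (CommRingCat.of k)) ⊤ J' ψ')
  {j' : Over.mk (C' ↘ Spec (CommRingCat.of k)) ⟶ J'}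
  (hj' : Jac.IsAbelJacobiAt (C' ↘ Spec (CommRingCat.of k)) σ' ψ' j')
include hdim' hJ' hj'

/-- A pair of points with the same sum in the Jacobian. -/

theorem cls_pair (a b : RPt k C') : (opt a ≫ j') * (opt b ≫ j') =
    cls hdim' hσ' ψ' (Finsupp.single (plc k hdim' a.2) 1 + Finsupp.single (plc k hdim' b.2) 1) := by
  rw [cls_add hdim' hσ' ψ' hJ', cls_single hdim' hσ' ψ' hj' a, cls_single hdim' hσ' ψ' hj' b]

include hσ' in
theorem divEq_of_pair_eq {a b c d : RPt k C'}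
    (h : (opt a ≫ j') * (opt b ≫ j') = (opt c ≫ j') * (opt d ≫ j')) :
    DivEq k (Finsupp.single (plc k hdim' a.2) 1 + Finsupp.single (plc k hdim' b.2) 1)
      (Finsupp.single (plc k hdim' c.2) (1 : ℤ) + Finsupp.single (plc k hdim' d.2) 1) := by
  rw [cls_pair hdim' hσ' ψ' hJ' hj', cls_pair hdim' hσ' ψ' hJ' hj'] at h
  exact divEq_of_cls_eq' hdim' hσ' ψ' hJ' (by
    simp only [FF.deg_add, FF.deg_single, deg_plc]) h

include hσ' in
/-- Two isomorphisms inducing the same map of Jacobians up to translation coincide. -/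
theorem mapPt_eq_of_sign_eq (hg : 2 ≤ Curv2.genus k C') (α₁ α₂ : C ≅ C')
    (hα₁ : α₁.hom ≫ (C' ↘ Spec (CommRingCat.of k)) = (C ↘ Spec (CommRingCat.of k)))
    (hα₂ : α₂.hom ≫ (C' ↘ Spec (CommRingCat.of k)) = (C ↘ Spec (CommRingCat.of k)))
    (v : RPt k C → (𝟙_ (Over (Spec (CommRingCat.of k))) ⟶ J')) (c₁ c₂ : 𝟙_ (Over (Spec (CommRingCat.of k))) ⟶ J')
    (h₁ : ∀ t, opt (mapPt α₁ hα₁ t) ≫ j' = v t * c₁) (h₂ : ∀ t, opt (mapPt α₂ hα₂ t) ≫ j' = v t * c₂)
    (u : RPt k C) : mapPt α₁ hα₁ u = mapPt α₂ hα₂ u := by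
  rw [genus_eq k hdim' hσ'] at hg
  by_contra hne
  set a := mapPt α₁ hα₁ u with ha
  set b := mapPt α₂ hα₂ u with hb
  obtain ⟨p, hp, hle⟩ := exists_pair_ell_le_one k hdim' hg (plc k hdim' b.2) (plc k hdim' a.2)
  obtain ⟨t, ht⟩ := exists_mapPt_eq α₁ hα₁ p
  have h := divEq_of_pair_eq hdim' hσ' ψ' hJ' hj' (a := p) (b := b) (c := a) (d := mapPt α₂ hα₂ t)
    (by rw [← ht, ha, hb, h₁ t, h₂ u, h₁ u, h₂ t]; ac_rfl)
  have h2 := two_le_ell_pair k hdim' h (c := plc k hdim' a.2) (fun e => hp e.symm)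
    (fun e => hne (plc_injective k hdim' e))
  rw [← DivEq.ell_eq k hdim' h] at h2
  omega

include hσ' in
/-- Opposite signs force a pencil of degree two. -/
theorem exists_g12_of_sign_ne (hg : 2 ≤ Curv2.genus k C') (α₁ α₂ : C ≅ C')
    (hα₁ : α₁.hom ≫ (C' ↘ Spec (CommRingCat.of k)) = (C ↘ Spec (CommRingCat.of k)))
    (hα₂ : α₂.hom ≫ (C' ↘ Spec (CommRingCat.of k)) = (C ↘ Spec (CommRingCat.of k)))
    (v : RPt k C → (𝟙_ (Over (Spec (CommRingCat.of k))) ⟶ J')) (c₁ c₂ : 𝟙_ (Over (Spec (CommRingCat.of k))) ⟶ J')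
    (h₁ : ∀ t, opt (mapPt α₁ hα₁ t) ≫ j' = v t * c₁) (h₂ : ∀ t, opt (mapPt α₂ hα₂ t) ≫ j' = (v t)⁻¹ * c₂)
    (u : RPt k C) : ∃ L : C'.Modules, PicF.IsInvertible L ∧ Curv2.deg k C' L 1 = 2 ∧
      Module.finrank k (Coh.HH C' L 0) = 2 := by
  classical
  rw [genus_eq k hdim' hσ'] at hg
  have hK := isFF' (X := C') k hdim'
  set a := mapPt α₁ hα₁ u with ha
  set b := mapPt α₂ hα₂ u with hb
  obtain ⟨q, hq, -, hav, -⟩ := exists_pts C' k hdim' hK 0 {plc k hdim' a.2, plc k hdim' b.2} 1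
  let p : RPt k C' := ⟨q 0, hq 0⟩
  obtain ⟨t, ht⟩ := exists_mapPt_eq α₁ hα₁ p
  have hm : (opt a ≫ j') * (opt b ≫ j') = c₁ * c₂ := by
    rw [ha, hb, h₁, h₂, _root_.mul_mul_mul_comm, mul_inv_cancel, _root_.one_mul]
  have hm' : (opt p ≫ j') * (opt (mapPt α₂ hα₂ t) ≫ j') = c₁ * c₂ := by
    rw [← ht, h₁, h₂, _root_.mul_mul_mul_comm, mul_inv_cancel, _root_.one_mul]
  have h := divEq_of_pair_eq hdim' hσ' ψ' hJ' hj' (hm.trans hm'.symm)
  have h0 := hav 0
  simp only [Finset.mem_insert, Finset.mem_singleton, not_or] at h0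
  have h2 := two_le_ell_pair k hdim' h h0.1 h0.2
  set D : Divisor k C'.functionField :=
    Finsupp.single (plc k hdim' p.2) (1 : ℤ) + Finsupp.single (plc k hdim' (mapPt α₂ hα₂ t).2) 1
  have hD : D.deg = 2 := by
    rw [FF.deg_add, FF.deg_single, FF.deg_single, deg_plc, deg_plc]; rfl
  obtain ⟨L, hL, z, hz, he⟩ := exists_divOf_eq k hdim' D
  have hde : DivEq k (divOf k hdim' hL) D := divEq_of_sub k hdim' hz he
  refine ⟨L, hL, ?_, ?_⟩
  · rw [deg_eq k hdim' hK hL, DivEq.deg_eq k hdim' hde, hD]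
  · have := ell_le_two k hdim' (by omega) hD
    rw [finrank_zero k hdim' hK hL, DivEq.ell_eq k hdim' hde]
    omega

omit hdim' hJ' hj' [RegCurve C'] [Smooth (C' ↘ Spec (CommRingCat.of k))] [IsIntegral C'] in
/-- Isomorphisms agreeing on rational points are equal. -/
theorem iso_ext {α₁ α₂ : C ≅ C'} (hα₁ : α₁.hom ≫ (C' ↘ Spec (CommRingCat.of k)) = (C ↘ Spec (CommRingCat.of k)))
    (hα₂ : α₂.hom ≫ (C' ↘ Spec (CommRingCat.of k)) = (C ↘ Spec (CommRingCat.of k)))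
    (h : ∀ t, mapPt α₁ hα₁ t = mapPt α₂ hα₂ t) : α₁ = α₂ := by
  refine Iso.ext ?_
  haveI : LocallyOfFiniteType (α₁.hom ≫ (C' ↘ Spec (CommRingCat.of k))) := by rw [hα₁]; infer_instance
  refine ext_of_apply_eq (C' ↘ Spec (CommRingCat.of k)) Set.univ isClosed_univ.isLocallyClosed dense_univ
    (fun x _ hx => ?_) (by rw [hα₁, hα₂])
  have h1 := congrArg (fun p : RPt k C' => p.1.base (IsLocalRing.closedPoint k))
    (h ⟨pointOfClosedPoint (C ↘ Spec (CommRingCat.of k)) x hx, pointOfClosedPoint_comp _ _ _⟩)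
  simp only [mapPt, Scheme.Hom.comp_base, TopCat.comp_app, pointOfClosedPoint_apply] at h1
  exact h1

end Groth.Agent.JacPts
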